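import Cfsg.Agent.Lib.InvChar.MTwelve.Fusion
import Cfsg.Agent.S3277
import Cfsg.Agent.Lib.Cores.PCore

/-!
The centraliser of `φ kb`.
-/

set_option autoImplicit false
set_option linter.unusedSectionVars false
set_option linter.style.haveILetI false

open Cfsg CfsgLib.Involutions

namespace CfsgLib.InvChar.MTwelve

universe u

theorem mem_cs {H : Type*} [Group H] {x y : H} :
    x ∈ Subgroup.centralizer ({y} : Set H) ↔ x * y = y * x :=
  Subgroup.mem_centralizer_singleton_iff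

theorem conj_fix {H : Type*} [Group H] {x y : H} (h : x * y = y * x) : x * y * x⁻¹ = y :=
  mul_inv_eq_iff_eq_mul.2 h

theorem comm_of_conj_fix {H : Type*} [Group H] {x y : H} (h : x * y * x⁻¹ = y) : x * y = y * x :=
  mul_inv_eq_iff_eq_mul.1 h

theorem conj_step {H : Type*} [Group H] (g h x : H) :
    g * h * x * (g * h)⁻¹ = g * (h * x * h⁻¹) * g⁻¹ := by group

/-- An odd order element is the square of a power of itself. -/
theorem exists_sqrt {H : Type*} [Group H] {o : H} (h : Odd (orderOf o)) :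
    o = (o ^ ((orderOf o + 1) / 2)) ^ 2 ∧ Odd (orderOf (o ^ ((orderOf o + 1) / 2))) := by
  refine ⟨?_, h.of_dvd_nat (orderOf_pow_dvd _)⟩
  obtain ⟨m, hm⟩ := h
  rw [← pow_mul, show (orderOf o + 1) / 2 * 2 = orderOf o + 1 by omega, pow_succ,
    pow_orderOf_eq_one, one_mul]

/-- An element of odd order of a group of order a power of two is trivial. -/
theorem eq_one_of_odd {H : Type*} [Group H] {P : Subgroup H} {n : ℕ} (hP : Nat.card P = 2 ^ n)
    {o : H} (ho : o ∈ P) (h : Odd (orderOf o)) : o = 1 := by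
  have hd := P.orderOf_dvd_natCard ho
  rw [hP] at hd
  exact orderOf_eq_one_iff.1 (Nat.eq_one_of_dvd_coprimes
    ((Nat.coprime_two_left.2 h).pow_left n) hd dvd_rfl)

/-- An automorphism of order two of a finite odd group without fixed points inverts it. -/
theorem inverts {H : Type*} [Group H] [Finite H] (N : Subgroup H) {x : H} (hxx : x * x = 1)
    (hn : ∀ n ∈ N, x * n * x⁻¹ ∈ N) (hfix : ∀ n ∈ N, x * n = n * x → n = 1) :
    ∀ n ∈ N, x * n * x⁻¹ = n⁻¹ := by
  let f : N → N := fun n => ⟨(n : H)⁻¹ * (x * n * x⁻¹), N.mul_mem (N.inv_mem n.2) (hn n n.2)⟩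
  have hinj : Function.Injective f := by
    intro a b e
    have e' : (a : H)⁻¹ * (x * a * x⁻¹) = (b : H)⁻¹ * (x * b * x⁻¹) := congrArg Subtype.val e
    have h1 : x * ((b : H) * (a : H)⁻¹) = (b : H) * (a : H)⁻¹ * x := by
      calc x * ((b : H) * (a : H)⁻¹) = (b : H) * ((b : H)⁻¹ * (x * b * x⁻¹)) *
            (x * (a : H)⁻¹) := by group
        _ = (b : H) * (a : H)⁻¹ * x := by rw [← e']; group
    exact Subtype.ext (mul_inv_eq_one.1 (hfix _ (N.mul_mem b.2 (N.inv_mem a.2)) h1)).symm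
  intro n hmem
  obtain ⟨m, hm⟩ := (Finite.injective_iff_surjective.1 hinj) ⟨n, hmem⟩
  have e : (m : H)⁻¹ * (x * m * x⁻¹) = n := congrArg Subtype.val hm
  have hx : x⁻¹ = x := inv_eq_of_mul_eq_one_right hxx
  rw [← e]
  calc x * ((m : H)⁻¹ * (x * m * x⁻¹)) * x⁻¹ = x * (m : H)⁻¹ * x * m * (x⁻¹ * x⁻¹) := by group
    _ = ((m : H)⁻¹ * (x * m * x⁻¹))⁻¹ := by
      rw [hx, hxx, mul_inv_rev, mul_inv_rev, mul_inv_rev, inv_inv, hx]; group

/-- Orbit and stabiliser for conjugation. -/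
theorem card_orbit_conj {H : Type*} [Group H] [Finite H] (K : Subgroup H) (z : H) :
    Nat.card K = Nat.card {v : H // ∃ h ∈ K, h * z * h⁻¹ = v} *
      Nat.card ↥(K ⊓ Subgroup.centralizer ({z} : Set H)) := by
  classical
  set P : Subgroup K := (Subgroup.centralizer ({z} : Set H)).subgroupOf K with hP
  have hiff : ∀ a b : K, a⁻¹ * b ∈ P ↔ (a : H) * z * (a : H)⁻¹ = (b : H) * z * (b : H)⁻¹ := by
    intro a b
    rw [hP, Subgroup.mem_subgroupOf, mem_cs, Subgroup.coe_mul, Subgroup.coe_inv]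
    constructor
    · intro h
      calc (a : H) * z * (a : H)⁻¹ = (a : H) * (z * ((a : H)⁻¹ * b)) * (b : H)⁻¹ := by group
        _ = (b : H) * z * (b : H)⁻¹ := by rw [← h]; group
    · intro e
      calc (a : H)⁻¹ * b * z = (a : H)⁻¹ * ((b : H) * z * (b : H)⁻¹) * b := by group
        _ = z * ((a : H)⁻¹ * b) := by rw [← e]; group
  let f : K ⧸ P → {v : H // ∃ h ∈ K, h * z * h⁻¹ = v} := fun q => Quotient.liftOn' q
    (fun a => ⟨(a : H) * z * (a : H)⁻¹, a, a.2, rfl⟩)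
    (fun a b hab => Subtype.ext ((hiff a b).1 (QuotientGroup.leftRel_apply.1 hab)))
  have hf : Function.Bijective f := by
    constructor
    · intro p q
      induction p using QuotientGroup.induction_on with
      | H a =>
        induction q using QuotientGroup.induction_on with
        | H b => intro e; exact QuotientGroup.eq.2 ((hiff a b).2 (congrArg Subtype.val e))
    · rintro ⟨v, h, hh, rfl⟩
      exact ⟨QuotientGroup.mk ⟨h, hh⟩, rfl⟩
  rw [Subgroup.card_eq_card_quotient_mul_card_subgroup P, Nat.card_congr (Equiv.ofBijective f hf)]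
  congr 1
  rw [hP, ← Subgroup.inf_subgroupOf_left]
  exact Nat.card_congr (Subgroup.subgroupOfEquivOfLe inf_le_left).toEquiv

theorem eb_spec (i : I) : (inEb i = true → com i kb = true ∧
      ∀ j, inEb j = true → inEb (mul i j) = true) ∧
    (inU i = true → inEb i = true ∧ ∀ j, inU j = true → inU (mul i j) = true) ∧
    (inU i = true ↔ i = 0 ∨ i = kz ∨ i = ka ∨ i = kza) ∧
    (com i kb = true → (lab i = 1 ∨ lab i = 2) → inU i = true) ∧
    (com i kb = true → lab i ≠ 4) ∧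
    (inEb i = true → inU i = true ∨ inU (mul kb i) = true) := by
  have h := all1_spec eb_check.2.2.2.2 i
  simp only [Bool.and_eq_true, Bool.or_eq_true, Bool.not_eq_true', beq_iff_eq,
    beq_eq_false_iff_ne, Bool.or_eq_false_iff] at h
  obtain ⟨⟨⟨⟨⟨h1, h2⟩, h3⟩, h4⟩, h5⟩, h6⟩ := h
  refine ⟨fun hi => ?_, fun hi => ?_, ?_, fun hc hl => ?_, fun hc => ?_, fun hi => ?_⟩
  · obtain ⟨a, b⟩ := h1.resolve_left (by simp [hi])
    exact ⟨a, fun j hj => by simpa [hj] using all1_spec b j⟩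
  · obtain ⟨a, b⟩ := h2.resolve_left (by simp [hi])
    exact ⟨a, fun j hj => by simpa [hj] using all1_spec b j⟩
  · rw [h3]
    simp only [Bool.or_eq_true, beq_iff_eq, Fin.ext_iff, Fin.val_zero, or_assoc]
  · rcases h4 with (e | e) | e
    · simp [hc] at e
    · omega
    · exact e
  · exact h5.resolve_left (by simp [hc])
  · rcases h6 with (e | e) | e
    · simp [hi] at e
    · exact Or.inl e
    · exact Or.inr e

theorem fb_spec : com kf kb = true ∧ com ka kb = true ∧ mul kf kf = 0 ∧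
    cj kf ka = kza ∧ cj kf kza = ka ∧ lab (mul kf kb) = 3 ∧ inU kb = false ∧ inU kf = false ∧
    inU (mul kf kb) = false ∧ com kb kb = true ∧ com kz kb = true ∧ com kza kb = true := by
  decide +kernel

namespace Ctr

variable {G : Type u} [Group G] [Finite G] {z : G} (X : Ctr z)
include X

theorem b_comm_z : X.b * z = z * X.b := X.comm_z kb

theorem mem_L {g : G} : g ∈ X.L ↔ g * X.b = X.b * g := mem_cs

theorem phi_mem_L {i : I} (h : com i kb = true) : X.φ i ∈ X.L := X.mem_L.2 ((X.com_iff i kb).1 h)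

theorem z_mem_L : z ∈ X.L := X.mem_L.2 X.b_comm_z.symm

theorem orderOf_conj_eq {g x : G} : orderOf (g * x * g⁻¹) = orderOf x := orderOf_conj g x

variable (hza : IsConj z (X.φ ka))
include hza

theorem not_conj_z_three {i : I} (h : lab i = 3) : ¬ IsConj z (X.φ i) :=
  fun e => X.not_conj_b (e.trans ((X.conj_of_lab (i := i)).2.1 h).symm)

/-- The conjugates of `z` in `T`. -/
theorem z_class_T {v : G} (hv : v ∈ X.T) (hc : IsConj z v) :
    v = z ∨ v = X.φ ka ∨ v = X.φ kza := by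
  obtain ⟨i, hi, rfl⟩ := X.exists_of_mem_T hv
  have ho : orderOf (X.φ i) = 2 := by
    obtain ⟨g, hg⟩ := isConj_iff.1 hc
    rw [← hg, X.orderOf_conj_eq, X.orderOf_z]
  obtain ⟨j, hj, hl⟩ := X.exists_index_of_involution ho (X.comm_z i)
  rw [X.inj hj] at hl
  have hU : inU i = true := by
    rcases X.lab_cases hl with h | h | h | h
    · exact (eb_spec i).2.2.2.1 hi (Or.inl h)
    · exact (eb_spec i).2.2.2.1 hi (Or.inr h)
    · exact absurd hc (X.not_conj_z_three hza h)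
    · exact absurd h ((eb_spec i).2.2.2.2.1 hi)
  rcases ((eb_spec i).2.2.1).1 hU with e | e | e | e
  · exfalso
    rw [e, X.map_one, orderOf_one] at ho
    omega
  · exact Or.inl (by rw [e, X.z_eq])
  · exact Or.inr (Or.inl (by rw [e]))
  · exact Or.inr (Or.inr (by rw [e]))

/-- The conjugates of `z` in `C(b)` are conjugate there into `T`. -/
theorem z_class_L {v : G} (hv : v ∈ X.L) (hc : IsConj z v) :
    ∃ c ∈ X.L, c * v * c⁻¹ = z ∨ c * v * c⁻¹ = X.φ ka ∨ c * v * c⁻¹ = X.φ kza := by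
  obtain ⟨g, hg⟩ := isConj_iff.1 hc
  have ho : orderOf v = 2 := by rw [← hg, X.orderOf_conj_eq, X.orderOf_z]
  obtain ⟨c, hc', hcT⟩ := X.conj_into_T (isPGroup_zpowers_of_involution ho)
    (Subgroup.zpowers_le.2 hv)
  exact ⟨c, hc', X.z_class_T hza (hcT v (Subgroup.mem_zpowers v))
    (hc.trans (isConj_iff.2 ⟨c, rfl⟩))⟩

omit hza in
theorem card_inf_conj {c v : G} (hc : c ∈ X.L) :
    Nat.card ↥(X.L ⊓ Subgroup.centralizer ({c * v * c⁻¹} : Set G)) =
      Nat.card ↥(X.L ⊓ Subgroup.centralizer ({v} : Set G)) := by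
  let e := MulAut.conj c
  have hmap : (X.L ⊓ Subgroup.centralizer ({v} : Set G)).map e.toMonoidHom =
      X.L ⊓ Subgroup.centralizer ({c * v * c⁻¹} : Set G) := by
    ext x
    constructor
    · rintro ⟨y, ⟨hy1, hy2⟩, rfl⟩
      exact ⟨X.L.mul_mem (X.L.mul_mem hc hy1) (X.L.inv_mem hc),
        mem_cs.2 (comm_conj c (mem_cs.1 hy2))⟩
    · rintro ⟨hx1, hx2⟩
      refine ⟨c⁻¹ * x * c, ⟨X.L.mul_mem (X.L.mul_mem (X.L.inv_mem hc) hx1) hc, mem_cs.2 ?_⟩,
        show c * (c⁻¹ * x * c) * c⁻¹ = x by group⟩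
      have := comm_conj c⁻¹ (mem_cs.1 hx2)
      rwa [inv_inv, show c⁻¹ * (c * v * c⁻¹) * c = v by group] at this
  rw [← hmap, Subgroup.card_map_of_injective e.injective]

omit hza in
theorem f_swap : X.φ kf * X.φ ka * (X.φ kf)⁻¹ = X.φ kza ∧
    X.φ kf * X.φ kza * (X.φ kf)⁻¹ = X.φ ka ∧ X.φ kf ∈ X.L ∧ X.φ ka * z = X.φ kza ∧
    z * X.φ ka = X.φ kza := by
  obtain ⟨h1, -, -, h4, h5, -⟩ := fb_spec
  have hzk : z * X.φ ka = X.φ kza := by rw [← lab_rep.2.2.2.2.2.1, X.map_mul, X.z_eq]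
  refine ⟨?_, ?_, X.phi_mem_L h1, by rw [X.comm_z, hzk], hzk⟩ <;> rw [← X.map_cj]
  · rw [h4]
  · rw [h5]

/-- The case that `φ kd` is conjugate to `b`. -/
theorem card_L_small (hd : IsConj X.b (X.φ kd)) : Nat.card X.L = 16 := by
  classical
  haveI := Fact.mk Nat.prime_two
  obtain ⟨g, hg⟩ := isConj_iff.1 hd.symm
  set v := g * z * g⁻¹ with hvdef
  have hv : v ∈ X.L := X.mem_L.2 (by
    have := comm_conj g (X.comm_z kd).symm
    rwa [hg] at this)
  have hv8 : Nat.card ↥(X.L ⊓ Subgroup.centralizer ({v} : Set G)) = 8 := by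
    rw [← (cc_of_lab).2.2.2 lab_rep.2.2.2.2.1, ← X.card_inf kd]
    let e := MulAut.conj g
    have hmap : (Subgroup.centralizer ({z} : Set G) ⊓
        Subgroup.centralizer ({X.φ kd} : Set G)).map e.toMonoidHom =
        X.L ⊓ Subgroup.centralizer ({v} : Set G) := by
      ext x
      constructor
      · rintro ⟨y, ⟨hy1, hy2⟩, rfl⟩
        refine ⟨X.mem_L.2 ?_, mem_cs.2 (comm_conj g (mem_cs.1 hy1))⟩
        have := comm_conj g (mem_cs.1 hy2)
        rwa [hg] at this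
      · rintro ⟨hx1, hx2⟩
        refine ⟨g⁻¹ * x * g, ⟨mem_cs.2 ?_, mem_cs.2 ?_⟩,
          show g * (g⁻¹ * x * g) * g⁻¹ = x by group⟩
        · have := comm_conj g⁻¹ (mem_cs.1 hx2)
          rwa [inv_inv, show g⁻¹ * (g * z * g⁻¹) * g = z by group] at this
        · have h1 := X.mem_L.1 hx1
          rw [← hg] at h1
          have := comm_conj g⁻¹ h1
          rwa [inv_inv, show g⁻¹ * (g * X.φ kd * g⁻¹) * g = X.φ kd by group] at this
    rw [← hmap, Subgroup.card_map_of_injective e.injective]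
  have hz16 : Nat.card ↥(X.L ⊓ Subgroup.centralizer ({z} : Set G)) = 16 := by
    rw [inf_comm]; exact X.card_T
  obtain ⟨f1, f2, hfL, haz, hza'⟩ := X.f_swap
  have ha8 : Nat.card ↥(X.L ⊓ Subgroup.centralizer ({X.φ ka} : Set G)) = 8 ∧
      Nat.card ↥(X.L ⊓ Subgroup.centralizer ({X.φ kza} : Set G)) = 8 := by
    obtain ⟨c, hc, e⟩ := X.z_class_L hza hv (isConj_iff.2 ⟨g, rfl⟩)
    have h1 := X.card_inf_conj (v := v) hc
    have h2 := X.card_inf_conj (v := X.φ ka) hfL
    rw [f1] at h2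
    rcases e with e | e | e <;> rw [e, hv8] at h1
    · rw [hz16] at h1; omega
    · exact ⟨h1, by rw [h2, h1]⟩
    · exact ⟨by rw [← h2, h1], h1⟩
  obtain ⟨Q, hQ⟩ := X.sylow_T
  set zL : ↥X.L := ⟨z, X.z_mem_L⟩
  have hzL : orderOf zL = 2 := by rw [Subgroup.orderOf_mk, X.orderOf_z]
  have hcomm := CfsgLib.Involutions.zstar_isolated Q hzL (fun c hc => by
    have hc' : _ ∈ (Q : Subgroup ↥X.L) := hc
    rw [hQ] at hc'
    refine Subtype.ext ?_
    show (c : G) * z * (c : G)⁻¹ = z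
    rcases X.z_class_T hza hc' (isConj_iff.2 ⟨(c : G), rfl⟩) with e | e | e
    · exact e
    all_goals
      have h1 := X.card_inf_conj (v := z) c.2
      rw [hz16] at h1
      have e' : (c : G) * z * (c : G)⁻¹ = _ := e
      rw [e'] at h1
      omega)
  set O := oddCore ↥X.L
  haveI : O.Normal := by
    haveI := CfsgLib.Cores.pPrimeCore_characteristic 2 ↥X.L
    show (Cfsg.oddCore ↥X.L).Normal
    rw [Cfsg.oddCore]; infer_instance
  set N := O.map X.L.subtype with hN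
  have hodd : ∀ n ∈ N, Odd (orderOf n) := by
    rintro _ ⟨n, hn, rfl⟩
    rw [orderOf_injective X.L.subtype X.L.subtype_injective]
    exact (CfsgLib.Cores.odd_card_oddCore (G := ↥X.L)).of_dvd_nat (O.orderOf_dvd_natCard hn)
  have hnorm : ∀ x ∈ X.L, ∀ n ∈ N, x * n * x⁻¹ ∈ N := by
    rintro x hx _ ⟨n, hn, rfl⟩
    exact ⟨_, (inferInstance : O.Normal).conj_mem n hn ⟨x, hx⟩, rfl⟩
  have hNL : N ≤ X.L := Subgroup.map_subtype_le _
  have hfix : ∀ (x : G) (k : ℕ), Nat.card ↥(X.L ⊓ Subgroup.centralizer ({x} : Set G)) = 2 ^ k →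
      ∀ n ∈ N, x * n = n * x → n = 1 := fun x k hk n hn e =>
    eq_one_of_odd hk (Subgroup.mem_inf.2 ⟨hNL hn, mem_cs.2 e.symm⟩) (hodd n hn)
  have hsq : ∀ {i : I}, lab i ≠ 0 → X.φ i * X.φ i = 1 := fun h => (X.lab_ne_zero.1 h).2
  have hiz := inverts N (by rw [← X.z_eq]; exact hsq (by rw [lab_rep.1]; decide))
    (hnorm z X.z_mem_L) (hfix z 4 (by rw [hz16]; norm_num))
  have hia := inverts N (hsq (i := ka) (by rw [lab_rep.2.1]; decide))
    (hnorm _ (X.phi_mem_L fb_spec.2.1)) (hfix _ 3 (by rw [ha8.1]; norm_num))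
  have hN1 : ∀ n ∈ N, n = 1 := by
    intro n hn
    refine hfix (X.φ kza) 3 (by rw [ha8.2]; norm_num) n hn (comm_of_conj_fix ?_)
    rw [← hza', conj_step, hia n hn, hiz _ (N.inv_mem hn), inv_inv]
  have hle : X.L ≤ X.T := by
    intro x hx
    refine Subgroup.mem_inf.2 ⟨mem_cs.2 ?_, hx⟩
    have h1 : (z * x * z⁻¹ * x⁻¹ : G) = 1 :=
      hN1 _ ⟨zL * ⟨x, hx⟩ * zL⁻¹ * ⟨x, hx⟩⁻¹, hcomm ⟨x, hx⟩, rfl⟩
    calc x * z = (z * x * z⁻¹ * x⁻¹)⁻¹ * (z * x) := by group
      _ = z * x := by rw [h1, inv_one, one_mul]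
  have : X.L = X.T := le_antisymm hle inf_le_right
  rw [this]; exact X.card_T

/-- The subgroup of index four in `C(b)`. -/
structure KData (K : Subgroup G) : Prop where
  le : K ≤ X.L
  card : 4 * Nat.card K = Nat.card X.L
  a_mem : X.φ ka ∈ K
  z_mem : z ∈ K
  cent : ∀ k ∈ K, k * z = z * k → ∃ i, inU i = true ∧ X.φ i = k
  odd : ∀ o ∈ X.L, Odd (orderOf o) → o ∈ K
  conj : ∀ v ∈ X.L, IsConj z v → ∃ c ∈ X.L, c * z * c⁻¹ = v
  cases' : (Nat.card K = 12 ∧ ∀ k ∈ K, ∃ i, inU i = true ∧ X.φ i = k * z * k⁻¹) ∨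
    Nonempty (↥K ≃* alternatingGroup (Fin 5))

/-- The case that `φ kd` is conjugate to `z`. -/
theorem exists_K (hd : IsConj z (X.φ kd)) : ∃ K : Subgroup G, X.KData K := by
  classical
  haveI := Fact.mk Nat.prime_two
  obtain ⟨f1, f2, hfL, haz, hza'⟩ := X.f_swap
  set a := X.φ ka with hadef
  have haL : a ∈ X.L := X.phi_mem_L fb_spec.2.1
  -- an element moving `z` to `z a`
  obtain ⟨g₀, hg₀⟩ := isConj_iff.1 hza.symm
  obtain ⟨j, hj, hcc, hmap⟩ := X.transport hg₀
  rw [(cc_of_lab).2.1 lab_rep.2.1] at hcc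
  have hjo : orderOf (X.φ j) = 2 := by rw [hj, X.orderOf_conj_eq, X.orderOf_z]
  obtain ⟨j', hj', hjl⟩ := X.exists_index_of_involution hjo (X.comm_z j)
  rw [X.inj hj'] at hjl
  have hj2 : lab j = 2 := by
    rcases X.lab_cases hjl with e | e | e | e
    · rw [((cc_of_lab).1 e).1] at hcc; omega
    · exact e
    · rw [(cc_of_lab).2.2.1 e] at hcc; omega
    · rw [(cc_of_lab).2.2.2 e] at hcc; omega
  have hbka : com kb ka = true := (X.com_iff kb ka).2 (X.mem_L.1 haL).symm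
  obtain ⟨k', hk', hk'j⟩ := hmap kb hbka
  have hk'o : orderOf (X.φ k') = 2 := by rw [hk', X.orderOf_conj_eq]; exact X.orderOf_b
  obtain ⟨k'', hk'', hkl⟩ := X.exists_index_of_involution hk'o (X.comm_z k')
  rw [X.inj hk''] at hkl
  have hbk : IsConj X.b (X.φ k') := isConj_iff.2 ⟨g₀, hk'.symm⟩
  have hk3 : lab k' = 3 := by
    rcases X.lab_cases hkl with e | e | e | e
    · rw [((cc_of_lab).1 e).2, X.z_eq] at hbk; exact absurd hbk.symm X.not_conj_b
    · exact absurd ((hza.trans ((X.conj_of_lab (i := k')).1 e)).trans hbk.symm) X.not_conj_b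
    · exact e
    · exact absurd ((hd.trans ((X.conj_of_lab (i := k')).2.2 e)).trans hbk.symm) X.not_conj_b
  have hsw := all1_spec swap_check j
  simp only [hj2, beq_self_eq_true, Bool.not_true, Bool.false_or] at hsw
  have hsw2 := all1_spec hsw k'
  have hjk : com j k' = true := (X.com_iff j k').2 ((X.com_iff k' j).1 hk'j).symm
  simp only [hk3, hjk, beq_self_eq_true, Bool.not_true, Bool.false_or] at hsw2
  obtain ⟨q, hq⟩ := any1_spec hsw2
  rw [Bool.and_eq_true, beq_iff_eq, ← Fin.ext_iff] at hq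
  set p := g₀⁻¹ * X.φ q * g₀ with hp
  have hpb : p * X.b = X.b * p := by
    have h1 := comm_conj g₀⁻¹ ((X.com_iff q k').1 hq.1)
    rw [hk', inv_inv, show g₀⁻¹ * (g₀ * X.b * g₀⁻¹) * g₀ = X.b by group] at h1
    exact h1
  have hpa : p * a * p⁻¹ = a := by
    refine conj_fix ?_
    have h1 := comm_conj g₀⁻¹ (X.comm_z q)
    rw [inv_inv] at h1
    have e : g₀⁻¹ * z * g₀ = a := by
      calc g₀⁻¹ * z * g₀ = g₀⁻¹ * (g₀ * a * g₀⁻¹) * g₀ := by rw [hg₀]
        _ = a := by group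
    rwa [e] at h1
  have hpz : p * z * p⁻¹ = X.φ kza := by
    have h1 : X.φ q * (g₀ * z * g₀⁻¹) * (X.φ q)⁻¹ = g₀ * z * g₀⁻¹ * z := by
      rw [← hj, ← X.map_cj, hq.2, X.map_mul, X.z_eq]
    calc p * z * p⁻¹ = g₀⁻¹ * (X.φ q * (g₀ * z * g₀⁻¹) * (X.φ q)⁻¹) * g₀ := by rw [hp]; group
      _ = z * (g₀⁻¹ * z * g₀) := by rw [h1]; group
      _ = X.φ kza := by
        rw [← hza', show g₀⁻¹ * z * g₀ = g₀⁻¹ * (g₀ * a * g₀⁻¹) * g₀ by rw [hg₀]]; group
  set r₀ := p * X.φ kf with hr₀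
  have hr₀L : r₀ ∈ X.L := X.L.mul_mem (X.mem_L.2 hpb) hfL
  have r1 : r₀ * z * r₀⁻¹ = X.φ kza := by
    rw [hr₀, conj_step, conj_fix (X.comm_z kf), hpz]
  have r2 : r₀ * X.φ kza * r₀⁻¹ = a := by rw [hr₀, conj_step, f2, hpa]
  have r3 : r₀ * a * r₀⁻¹ = z := by
    rw [hr₀, conj_step, f1]
    have hzz : a * a = 1 := (X.lab_ne_zero.1 (by rw [lab_rep.2.1]; decide)).2
    calc p * X.φ kza * p⁻¹ = p * z * p⁻¹ * (p * a * p⁻¹) := by rw [← hza']; group
      _ = z := by rw [hpz, hpa, ← hza', mul_assoc, hzz, mul_one]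
  -- an odd power of it
  obtain ⟨s, n, hn2, hsn⟩ := Nat.exists_eq_pow_mul_and_not_dvd (orderOf_pos r₀).ne' 2 (by norm_num)
  set r := r₀ ^ (4 ^ s) with hr
  have hrodd : Odd (orderOf r) := by
    refine (Nat.odd_iff.2 (Nat.two_dvd_ne_zero.1 hn2)).of_dvd_nat ?_
    refine orderOf_dvd_of_pow_eq_one ?_
    rw [hr, ← pow_mul, show 4 ^ s * n = orderOf r₀ * 2 ^ s by
      rw [hsn, show (4 : ℕ) = 2 * 2 by norm_num, mul_pow]; ring, pow_mul, pow_orderOf_eq_one,
      one_pow]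
  have hcube : ∀ u, (u = z ∨ u = a ∨ u = X.φ kza) → r₀ ^ 3 * u * (r₀ ^ 3)⁻¹ = u := by
    intro u hu
    rw [pow_three, conj_step r₀ (r₀ * r₀), conj_step r₀ r₀]
    rcases hu with e | e | e <;> rw [e]
    · rw [r1, r2, r3]
    · rw [r3, r1, r2]
    · rw [r2, r3, r1]
  have hact : ∀ u, (u = z ∨ u = a ∨ u = X.φ kza) → r * u * r⁻¹ = r₀ * u * r₀⁻¹ := by
    intro u hu
    obtain ⟨m, hm⟩ : ∃ m, 4 ^ s = 3 * m + 1 := ⟨4 ^ s / 3, by
      have : 4 ^ s % 3 = 1 := by rw [Nat.pow_mod]; norm_num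
      omega⟩
    have hfixm : ∀ k : ℕ, (r₀ ^ 3) ^ k * u * ((r₀ ^ 3) ^ k)⁻¹ = u := by
      intro k
      induction k with
      | zero => simp
      | succ k ih => rw [pow_succ, conj_step, hcube u hu, ih]
    rw [hr, hm, show r₀ ^ (3 * m + 1) = r₀ * (r₀ ^ 3) ^ m by rw [← pow_mul, ← pow_succ'],
      conj_step, hfixm]
  have hrz : r * z * r⁻¹ = X.φ kza := (hact z (Or.inl rfl)).trans r1
  have hra : r * a * r⁻¹ = z := (hact a (Or.inr (Or.inl rfl))).trans r3
  have hrza : r * X.φ kza * r⁻¹ = a := (hact _ (Or.inr (Or.inr rfl))).trans r2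
  have hrL : r ∈ X.L := X.L.pow_mem hr₀L _
  -- orders
  obtain ⟨Q, hQ⟩ := X.sylow_T
  have hQc : Nat.card Q = 16 := by
    rw [show Nat.card Q = Nat.card (Q : Subgroup ↥X.L) from rfl, hQ,
      Nat.card_congr (Subgroup.subgroupOfEquivOfLe inf_le_right).toEquiv, X.card_T]
  obtain ⟨m, hm, hm2⟩ : ∃ m, Nat.card X.L = 16 * m ∧ m % 2 = 1 := by
    refine ⟨(Q : Subgroup ↥X.L).index, ?_, ?_⟩
    · rw [← (Q : Subgroup ↥X.L).card_mul_index, show Nat.card (Q : Subgroup ↥X.L) = 16 from hQc]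
    · have := Q.not_dvd_index; omega
  -- the first subgroup of index two
  let M := X.sub inEb eb_check.2.2.1 fun i j hi hj => ((eb_spec i).1 hi).2 j hj
  have hMmem : ∀ g, g ∈ M ↔ ∃ i, inEb i = true ∧ X.φ i = g := fun g => Iff.rfl
  have hML : M ≤ X.L := fun g hg => by
    obtain ⟨i, hi, rfl⟩ := (hMmem g).1 hg
    exact X.phi_mem_L ((eb_spec i).1 hi).1
  have hMc : Nat.card (M.subgroupOf X.L) = 8 := by
    rw [Nat.card_congr (Subgroup.subgroupOfEquivOfLe hML).toEquiv,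
      X.card_image inEb M hMmem, eb_check.1]
  have hnotU : ∀ {i : I}, lab i = 3 → ∀ c u : G, (∃ k, inU k = true ∧ X.φ k = u) →
      c * X.φ i * c⁻¹ ≠ u := by
    rintro i hi c _ ⟨k, hk, rfl⟩ e
    have h3 : ¬ IsConj z (X.φ i) := X.not_conj_z_three hza hi
    have hc : IsConj (X.φ i) (X.φ k) := isConj_iff.2 ⟨c, e⟩
    rcases ((eb_spec k).2.2.1).1 hk with rfl | rfl | rfl | rfl
    · rw [X.map_one] at e
      exact (X.lab_ne_zero.1 (show lab i ≠ 0 by omega)).1 (conj_eq_one_iff.1 e)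
    · exact h3 (by rw [X.z_eq] at hc; exact hc.symm)
    · exact h3 (hza.trans hc.symm)
    · exact h3 ((hza.trans ((X.conj_of_lab (i := kza)).1 lab_rep.2.2.2.2.2.2)).trans hc.symm)
  obtain ⟨K₀', hK₀⟩ := exists_index_two_of_involution_not_conj (M := M.subgroupOf X.L)
    (x := (⟨X.φ kf, hfL⟩ : ↥X.L))
    (by rw [Subgroup.orderOf_mk]; exact X.orderOf_phi (by rw [lab_rep.2.2.2.1]; decide))
    (by have h1 := (M.subgroupOf X.L).card_mul_index; rw [hMc, hm] at h1; omega)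
    (fun c hc => by
      have hc' : (c : G) * X.φ kf * (c : G)⁻¹ ∈ M := hc
      obtain ⟨i, hi, e⟩ := (hMmem _).1 hc'
      rcases (eb_spec i).2.2.2.2.2 hi with h | h
      · exact hnotU lab_rep.2.2.2.1 (c : G) (X.φ i) ⟨i, h, rfl⟩ e.symm
      · refine hnotU fb_spec.2.2.2.2.2.1 (c : G) (X.φ (mul kb i)) ⟨_, h, rfl⟩ ?_
        rw [X.map_mul, X.map_mul, e]
        have hcb := X.mem_L.1 c.2
        have hfb := (X.com_iff kf kb).1 fb_spec.1
        calc (c : G) * (X.φ kf * X.φ kb) * (c : G)⁻¹ = (c : G) * X.b * (X.φ kf * (c : G)⁻¹) := by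
              rw [hfb]; group
          _ = X.b * ((c : G) * X.φ kf * (c : G)⁻¹) := by rw [hcb]; group)
  set K₀ := K₀'.map X.L.subtype with hK₀def
  have hK₀L : K₀ ≤ X.L := Subgroup.map_subtype_le _
  have hmem₀ : ∀ {g : G} (hg : g ∈ X.L), g ∈ K₀ ↔ (⟨g, hg⟩ : ↥X.L) ∈ K₀' := fun {g} hg =>
    ⟨fun ⟨y, hy, e⟩ => by rwa [show (⟨g, hg⟩ : ↥X.L) = y from Subtype.ext e.symm],
      fun h => ⟨_, h, rfl⟩⟩
  have hsq₀ : ∀ g ∈ X.L, g ^ 2 ∈ K₀ := fun g hg =>
    (hmem₀ (X.L.pow_mem hg 2)).2 (Subgroup.sq_mem_of_index_two hK₀ ⟨g, hg⟩)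
  have hn₀ : ∀ c ∈ X.L, ∀ g ∈ K₀, c * g * c⁻¹ ∈ K₀ := by
    rintro c hc _ ⟨y, hy, rfl⟩
    exact ⟨_, (Subgroup.normal_of_index_eq_two hK₀).conj_mem y hy ⟨c, hc⟩, rfl⟩
  have hK₀c : Nat.card K₀ = 8 * m := by
    rw [hK₀def, Subgroup.card_map_of_injective X.L.subtype_injective]
    have := K₀'.card_mul_index
    rw [hK₀, hm] at this
    omega
  obtain ⟨q₀, hq₀⟩ := any1_spec z_square
  rw [Bool.and_eq_true, beq_iff_eq, ← Fin.ext_iff] at hq₀
  have hz₀ : z ∈ K₀ := by
    have := hsq₀ _ (X.phi_mem_L hq₀.1)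
    rwa [pow_two, ← X.map_mul, hq₀.2, X.z_eq] at this
  have hza₀ : X.φ kza ∈ K₀ := hrz ▸ hn₀ r hrL z hz₀
  have ha₀ : a ∈ K₀ := hrza ▸ hn₀ r hrL _ hza₀
  -- an involution of `K₀` outside `U`
  obtain ⟨kx, hxl, hxU, hxK⟩ : ∃ kx, lab kx = 3 ∧ inU kx = false ∧ X.φ kx ∈ K₀ := by
    obtain ⟨c1, -, -, -, -, c6, u1, u2, u3, c10, -, -⟩ := fb_spec
    by_cases hbK : X.φ kb ∈ K₀
    · exact ⟨kb, lab_rep.2.2.1, u1, hbK⟩
    by_cases hfK : X.φ kf ∈ K₀
    · exact ⟨kf, lab_rep.2.2.2.1, u2, hfK⟩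
    refine ⟨mul kf kb, c6, u3, ?_⟩
    rw [X.map_mul]
    rw [hmem₀ (X.phi_mem_L c10)] at hbK
    rw [hmem₀ hfL] at hfK
    exact ⟨_, (Subgroup.mul_mem_iff_of_index_two hK₀).2 (iff_of_false hfK hbK), rfl⟩
  let U := X.sub inU eb_check.2.2.2.1 fun i j hi hj => ((eb_spec i).2.1 hi).2 j hj
  have hUmem : ∀ g, g ∈ U ↔ ∃ i, inU i = true ∧ X.φ i = g := fun g => Iff.rfl
  have hUof : ∀ g, g ∈ U → g = 1 ∨ g = z ∨ g = a ∨ g = X.φ kza := by
    rintro g hg
    obtain ⟨i, hi, rfl⟩ := (hUmem g).1 hg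
    rcases ((eb_spec i).2.2.1).1 hi with rfl | rfl | rfl | rfl
    · exact Or.inl X.map_one
    · exact Or.inr (Or.inl X.z_eq)
    · exact Or.inr (Or.inr (Or.inl rfl))
    · exact Or.inr (Or.inr (Or.inr rfl))
  have hUK₀ : U ≤ K₀ := fun g hg => by
    rcases hUof g hg with e | e | e | e <;> rw [e]
    exacts [K₀.one_mem, hz₀, ha₀, hza₀]
  have hUc : Nat.card U = 4 := (X.card_image inU U hUmem).trans eb_check.2.1
  obtain ⟨K', hK⟩ := exists_index_two_of_involution_not_conj (M := U.subgroupOf K₀)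
    (x := (⟨X.φ kx, hxK⟩ : ↥K₀))
    (by rw [Subgroup.orderOf_mk]; exact X.orderOf_phi (by omega))
    (by
      have h1 := (U.subgroupOf K₀).card_mul_index
      rw [Nat.card_congr (Subgroup.subgroupOfEquivOfLe hUK₀).toEquiv, hUc, hK₀c] at h1
      omega)
    (fun c hc => hnotU hxl (c : G) _ ((hUmem _).1 hc) rfl)
  set K := K'.map K₀.subtype with hKdef
  have hKK₀ : K ≤ K₀ := Subgroup.map_subtype_le _
  have hKL : K ≤ X.L := hKK₀.trans hK₀L
  have hKc : Nat.card K = 4 * m := by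
    rw [hKdef, Subgroup.card_map_of_injective K₀.subtype_injective]
    have := K'.card_mul_index
    rw [hK, hK₀c] at this
    omega
  have hodd : ∀ o ∈ X.L, Odd (orderOf o) → o ∈ K := by
    intro o ho h
    obtain ⟨e, h'⟩ := exists_sqrt h
    obtain ⟨e', -⟩ := exists_sqrt h'
    have h1 := hsq₀ _ (X.L.pow_mem (X.L.pow_mem ho ((orderOf o + 1) / 2))
      ((orderOf (o ^ ((orderOf o + 1) / 2)) + 1) / 2))
    rw [← e'] at h1
    rw [e]
    exact ⟨⟨_, h1⟩ ^ 2, Subgroup.sq_mem_of_index_two hK _, rfl⟩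
  have hrK : r ∈ K := hodd r hrL hrodd
  have hn : ∀ c ∈ K₀, ∀ g ∈ K, c * g * c⁻¹ ∈ K := by
    rintro c hc _ ⟨y, hy, rfl⟩
    exact ⟨_, (Subgroup.normal_of_index_eq_two hK).conj_mem y hy ⟨c, hc⟩, rfl⟩
  have hzK : z ∈ K := by
    by_contra h
    have hiff : ∀ {g : G} (hg : g ∈ K₀), g ∈ K ↔ (⟨g, hg⟩ : ↥K₀) ∈ K' := fun {g} hg =>
      ⟨fun ⟨y, hy, e⟩ => by rwa [show (⟨g, hg⟩ : ↥K₀) = y from Subtype.ext e.symm],
        fun h => ⟨_, h, rfl⟩⟩
    have hzaK : X.φ kza ∉ K := fun h' => h (by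
      have := hn r (hKK₀ hrK) _ (hn r (hKK₀ hrK) _ h')
      rwa [hrza, hra] at this)
    have haK : a ∈ K := by
      have hzz : z * z = 1 := by rw [← pow_two, ← X.orderOf_z, pow_orderOf_eq_one]
      rw [show a = z * X.φ kza by rw [← hza', ← mul_assoc, hzz, one_mul], hiff (K₀.mul_mem hz₀ hza₀)]
      rw [hiff hz₀] at h
      rw [hiff hza₀] at hzaK
      exact (Subgroup.mul_mem_iff_of_index_two hK (a := (⟨z, hz₀⟩ : ↥K₀))
        (b := (⟨X.φ kza, hza₀⟩ : ↥K₀))).2 (iff_of_false h hzaK)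
    exact h (hra ▸ hn r (hKK₀ hrK) a haK)
  have hzaK : X.φ kza ∈ K := hrz ▸ hn r (hKK₀ hrK) z hzK
  have haK : a ∈ K := hrza ▸ hn r (hKK₀ hrK) _ hzaK
  have hUK : U ≤ K := fun g hg => by
    rcases hUof g hg with e | e | e | e <;> rw [e]
    exacts [K.one_mem, hzK, haK, hzaK]
  have hUT : U ≤ X.T := fun g hg => by
    obtain ⟨i, hi, rfl⟩ := (hUmem g).1 hg
    exact (X.mem_T i).2 ((eb_spec i).1 ((eb_spec i).2.1 hi).1).1
  have hKT : X.T ⊓ K = U := by
    refine (Subgroup.eq_of_le_of_card_ge (le_inf hUT hUK) ?_).symm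
    rw [hUc]
    obtain ⟨n, hn'⟩ := IsPGroup.iff_card.1 (X.isPGroup_T.to_le (inf_le_left : X.T ⊓ K ≤ X.T))
    have hd' := Subgroup.card_dvd_of_le (inf_le_right : X.T ⊓ K ≤ K)
    rw [hn', hKc] at hd'
    rw [hn']
    by_contra hlt
    have h3 : 3 ≤ n := by
      by_contra h'
      exact hlt (le_of_le_of_eq (Nat.pow_le_pow_right (by norm_num) (show n ≤ 2 by omega)) rfl)
    have := (pow_dvd_pow 2 h3).trans hd'
    omega
  have hcent : ∀ k ∈ K, k * z = z * k → k ∈ U := fun k hk e => by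
    rw [← hKT]
    exact ⟨⟨mem_cs.2 e, hKL hk⟩, hk⟩
  refine ⟨K, ⟨hKL, by omega, haK, hzK, fun k hk e => (hUmem k).1 (hcent k hk e), hodd, ?_, ?_⟩⟩
  · intro v hv hc
    obtain ⟨c, hcL, hcv⟩ := X.z_class_L hza hv hc
    obtain ⟨w, hw, hwv⟩ : ∃ w ∈ X.L, w * z * w⁻¹ = c * v * c⁻¹ := by
      rcases hcv with e | e | e <;> rw [e]
      · exact ⟨1, X.L.one_mem, by group⟩
      · exact ⟨r * r, X.L.mul_mem hrL hrL, by rw [conj_step, hrz, hrza]⟩
      · exact ⟨r, hrL, hrz⟩
    exact ⟨c⁻¹ * w, X.L.mul_mem (X.L.inv_mem hcL) hw, by rw [conj_step, hwv]; group⟩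
  · by_cases h12 : ∀ k ∈ K, k * z * k⁻¹ ∈ U
    · left
      refine ⟨?_, fun k hk => (hUmem _).1 (h12 k hk)⟩
      rw [card_orbit_conj K z]
      have hcK : K ⊓ Subgroup.centralizer ({z} : Set G) = U := le_antisymm
        (fun g hg => hcent g hg.1 (mem_cs.1 hg.2)) (le_inf hUK (hUT.trans inf_le_left))
      rw [hcK, hUc]
      have h3 : Nat.card {v : G // ∃ h ∈ K, h * z * h⁻¹ = v} = 3 := by
        have hne : ∀ {i j : I}, i ≠ j → X.φ i ≠ X.φ j := fun h e => h (X.inj e)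
        have hiff : ∀ v : G, (∃ h ∈ K, h * z * h⁻¹ = v) ↔
            v ∈ ({z, a, X.φ kza} : Finset G) := by
          intro v
          simp only [Finset.mem_insert, Finset.mem_singleton]
          constructor
          · rintro ⟨h, hh, rfl⟩
            rcases hUof _ (h12 h hh) with e | e | e | e
            · exfalso
              have h2 := X.orderOf_z
              rw [conj_eq_one_iff.1 e, orderOf_one] at h2
              omega
            · exact Or.inl e
            · exact Or.inr (Or.inl e)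
            · exact Or.inr (Or.inr e)
          · rintro (rfl | rfl | rfl)
            · exact ⟨1, K.one_mem, by group⟩
            · exact ⟨r * r, K.mul_mem hrK hrK, by rw [conj_step, hrz, hrza]⟩
            · exact ⟨r, hrK, hrz⟩
        rw [Nat.card_congr (Equiv.subtypeEquivRight hiff), Nat.card_eq_finsetCard,
          hadef, Finset.card_insert_of_notMem (by
            simp only [Finset.mem_insert, Finset.mem_singleton, not_or]
            exact ⟨fun e => hne (show kz ≠ ka by decide) (X.z_eq.trans e),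
              fun e => hne (show kz ≠ kza by decide) (X.z_eq.trans e)⟩),
          Finset.card_insert_of_notMem (by simpa using hne (show ka ≠ kza by decide)),
          Finset.card_singleton]
      rw [h3]
    · right
      push Not at h12
      obtain ⟨k₀, hk₀, hk₀U⟩ := h12
      set zK : ↥K := ⟨z, hzK⟩
      set V := Subgroup.centralizer ({zK} : Set ↥K) with hVdef
      have hV : ∀ c : ↥K, c ∈ V ↔ (c : G) ∈ U := fun c =>
        ⟨fun h => hcent c c.2 (congrArg Subtype.val (mem_cs.1 h)),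
          fun h => mem_cs.2 (Subtype.ext (mem_cs.1 (hUT h).1))⟩
      have hVU : V = U.subgroupOf K := Subgroup.ext hV
      have hV4 : Nat.card V = 4 := by
        rw [hVU, Nat.card_congr (Subgroup.subgroupOfEquivOfLe hUK).toEquiv, hUc]
      have hUsq : ∀ g ∈ U, g ^ 2 = 1 := fun g hg => by
        rcases hUof g hg with e | e | e | e <;> rw [e, pow_two]
        · exact one_mul 1
        · rw [← X.z_eq]; exact (X.lab_ne_zero.1 (by rw [lab_rep.1]; decide)).2
        · exact (X.lab_ne_zero.1 (by rw [lab_rep.2.1]; decide)).2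
        · exact (X.lab_ne_zero.1 (by rw [lab_rep.2.2.2.2.2.2]; decide)).2
      refine Cfsg.Agent.S3277.result zK (by rw [Subgroup.orderOf_mk, X.orderOf_z]) hV4
        (fun c hc => Subtype.ext (hUsq _ ((hV c).1 hc))) ?_ ?_
      · rintro ⟨S, N, hN, hcomp⟩
        haveI := hN
        have hNodd : ¬ 2 ∣ Nat.card N := hcomp.index_eq_card ▸ S.not_dvd_index
        let π : ↥K →* ↥K ⧸ N := QuotientGroup.mk' N
        have hp : IsPGroup 2 (↥K ⧸ N) := by
          obtain ⟨n, hn'⟩ := IsPGroup.iff_card.1 S.isPGroup'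
          refine IsPGroup.of_card (n := n) ?_
          rw [← Subgroup.index, hcomp.symm.index_eq_card]
          exact hn'
        set rK : ↥K := ⟨r, hrK⟩
        have hπr : π rK = 1 := by
          obtain ⟨n, hn'⟩ := hp (π rK)
          have h1 : Odd (orderOf (π rK)) := by
            refine Odd.of_dvd_nat ?_ (orderOf_map_dvd π rK)
            rwa [Subgroup.orderOf_mk]
          exact orderOf_eq_one_iff.1 (Nat.eq_one_of_dvd_coprimes
            ((Nat.coprime_two_left.2 h1).pow_left n) (orderOf_dvd_of_pow_eq_one hn') dvd_rfl)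
        have hmem : zK * (rK * zK * rK⁻¹) ∈ N := by
          rw [← QuotientGroup.eq_one_iff]
          show π (zK * (rK * zK * rK⁻¹)) = 1
          rw [_root_.map_mul, _root_.map_mul, _root_.map_mul, _root_.map_inv, hπr, one_mul, inv_one,
            mul_one, ← _root_.map_mul]
          rw [show zK * zK = 1 from Subtype.ext (by
            show z * z = 1
            rw [← pow_two, ← X.orderOf_z, pow_orderOf_eq_one]), _root_.map_one]
        refine hNodd ?_
        have ha2 : orderOf (zK * (rK * zK * rK⁻¹)) = 2 := by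
          rw [← Subgroup.orderOf_coe, show ((zK * (rK * zK * rK⁻¹) : ↥K) : G) = a by
            show z * (r * z * r⁻¹) = a
            rw [hrz, ← hza', ← mul_assoc, ← pow_two, ← X.orderOf_z, pow_orderOf_eq_one, one_mul]]
          exact X.orderOf_phi (by rw [lab_rep.2.1]; decide)
        exact ha2 ▸ Subgroup.orderOf_dvd_natCard N hmem
      · intro W hWn hWe
        haveI := hWn
        have hWp : IsPGroup 2 ↥W := fun x => ⟨1, Subtype.ext (by
          rw [SubmonoidClass.coe_pow, pow_one]; exact hWe.2 x x.2)⟩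
        have hVp : IsPGroup 2 ↥V := IsPGroup.of_card (n := 2) (by rw [hV4]; norm_num)
        have hWV : W ≤ V := by
          have hp := hWp.to_sup_of_normal_left hVp
          have hp' : IsPGroup 2 ↥((W ⊔ V).map K.subtype) := hp.map _
          obtain ⟨c, hcL, hc⟩ := X.conj_into_T hp' ((Subgroup.map_subtype_le _).trans hKL)
          obtain ⟨n, hn'⟩ := IsPGroup.iff_card.1 hp
          have hd' := (W ⊔ V).card_subgroup_dvd_card
          rw [hn', hKc] at hd'
          have hle : n ≤ 2 := by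
            by_contra h'
            have := (pow_dvd_pow 2 (show 3 ≤ n by omega)).trans hd'
            omega
          have : V = W ⊔ V := Subgroup.eq_of_le_of_card_ge le_sup_right (by
            rw [hn', hV4]
            exact (Nat.pow_le_pow_right (by norm_num) hle).trans_eq (by norm_num))
          exact le_sup_left.trans this.ge
        constructor
        · intro h2
          obtain ⟨w, hw, huniq⟩ := (Nat.card_eq_two_iff' (1 : ↥W)).1 h2
          have hfix : r * ((w : ↥K) : G) * r⁻¹ = ((w : ↥K) : G) := by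
            have hmem := hWn.conj_mem (w : ↥K) w.2 ⟨r, hrK⟩
            have := huniq ⟨_, hmem⟩ fun e => hw (Subtype.ext
              (conj_eq_one_iff.1 (congrArg Subtype.val e)))
            exact congrArg (fun x : ↥W => ((x : ↥K) : G)) this
          rcases hUof _ ((hV _).1 (hWV w.2)) with e | e | e | e
          · exact hw (Subtype.ext (Subtype.ext e))
          · rw [e, hrz] at hfix
            exact absurd (X.inj (hfix.trans X.z_eq.symm)) (by decide)
          · rw [e, hra] at hfix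
            exact absurd (X.inj (X.z_eq.trans hfix)) (by decide)
          · rw [e, hrza] at hfix
            exact absurd (X.inj hfix) (by decide)
        · intro h4
          have hWeq : W = V := Subgroup.eq_of_le_of_card_ge hWV (by rw [h4, hV4])
          exact hk₀U ((hV _).1 (hWeq ▸ hWn.conj_mem zK
            (hWeq ▸ (mem_cs.2 rfl : zK ∈ V)) ⟨k₀, hk₀⟩))

end Ctr

end CfsgLib.InvChar.MTwelve
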