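import Cfsg.Agent.Lib.InvChar.MTwelve.Model
import Cfsg.Agent.Lib.InvChar.MTwelve.CentB

/-!
The four elements generate the Mathieu group of degree twelve; its centraliser of a central
involution.
-/

set_option autoImplicit false
set_option linter.unusedSectionVars false
set_option linter.style.haveILetI false
set_option maxRecDepth 100000

open Cfsg CfsgLib.Golay CfsgLib.OutMathieu CfsgLib.SporRecognition.CosetCert

namespace CfsgLib.InvChar.MTwelve

attribute [local irreducible] mul inv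

/-- The group generated by the four permutations. -/
noncomputable def P4 : Subgroup (Equiv.Perm GolayPt) := Subgroup.closure (Set.range perm4)

theorem P4_le : P4 ≤ stabK [dodMask] :=
  (Subgroup.closure_le _).2 (Set.range_subset_iff.2 perm4_mem)

theorem eP_mem_P4 (i : I) : eP i ∈ P4 := by
  rw [eP, evalW_eq_prod]
  refine list_prod_mem fun g hg => ?_
  obtain ⟨⟨a, b⟩, -, rfl⟩ := List.mem_map.1 hg
  cases b
  · exact P4.inv_mem (Subgroup.subset_closure ⟨a, rfl⟩)
  · exact Subgroup.subset_closure ⟨a, rfl⟩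

theorem eP_comm (i : I) : eP i * eP kz = eP kz * eP i := by
  have h := all1_spec one_inv_check.2 i
  simp only [com, Bool.and_eq_true, beq_iff_eq, ← Fin.ext_iff] at h
  rw [← eP_mul, ← eP_mul, h.2]

/-- The listed conjugates are conjugates. -/
theorem class_mem : ∀ k, k < 495 → ∃ v : Equiv.Perm GolayPt,
    (∃ h ∈ P4, h * eP kz * h⁻¹ = v) ∧ IsTbl v (classList.getD k (0, 0, 0)).1 := by
  intro k
  induction k using Nat.strong_induction_on with
  | _ k ih =>
    intro hk
    rcases Nat.eq_zero_or_pos k with rfl | hpos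
    · exact ⟨eP kz, ⟨1, P4.one_mem, by group⟩, class_list_check.1 ▸ (els_spec kz).1⟩
    have h := List.all_eq_true.1 class_list_check.2.1 k (List.mem_range.2 hk)
    simp only [Bool.or_eq_true, beq_iff_eq, classStep, Bool.and_eq_true, decide_eq_true_eq] at h
    obtain ⟨⟨hp, hg⟩, hc⟩ := h.resolve_left hpos.ne'
    obtain ⟨v, ⟨c, hc', rfl⟩, hv⟩ := ih _ hp (hp.trans hk)
    refine ⟨perm4 ⟨_, hg⟩ * (c * eP kz * c⁻¹) * (perm4 ⟨_, hg⟩)⁻¹,
      ⟨perm4 ⟨_, hg⟩ * c, P4.mul_mem (Subgroup.subset_closure ⟨_, rfl⟩) hc', by group⟩, ?_⟩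
    have hok : okTbl (classList.getD k (0, 0, 0)).1 = true := by
      have h2 := List.all_eq_true.1 class_ok_check k (List.mem_range.2 hk)
      exact h2
    obtain ⟨w, hw⟩ := exists_isTbl hok
    rw [IsTbl.conj (perm4_tbl ⟨_, hg⟩) hv hw hc]
    exact hw

theorem ncard_class {H : Subgroup (Equiv.Perm GolayPt)} (hH : P4 ≤ H) :
    495 ≤ Nat.card {v : Equiv.Perm GolayPt // ∃ h ∈ H, h * eP kz * h⁻¹ = v} := by
  obtain ⟨-, -, hlen, hlt, hnorm, hcl, hinc⟩ := class_list_check
  simp only [List.all_eq_true, decide_eq_true_eq, beq_iff_eq] at hlt hnorm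
  have hord : ∀ i : Fin 495, classOrder.getD i.val 0 < 495 := fun i => hlt _ (by
    rw [List.getD_eq_getElem _ _ (by omega)]
    exact List.getElem_mem _)
  choose v hv hvt using fun i : Fin 495 => class_mem _ (hord i)
  let F : Fin 495 → {v : Equiv.Perm GolayPt // ∃ h ∈ H, h * eP kz * h⁻¹ = v} := fun i =>
    ⟨v i, by obtain ⟨h, hh, e⟩ := hv i; exact ⟨h, hH hh, e⟩⟩
  have hF : Function.Injective F := by
    intro i j e
    have e' : v i = v j := congrArg Subtype.val e
    have hmem : ∀ m, m < 495 → classList.getD m (0, 0, 0) ∈ classList := fun m hm => by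
      rw [List.getD_eq_getElem _ _ (by omega)]
      exact List.getElem_mem _
    have hi := hvt i
    rw [e'] at hi
    have heq : (classList.getD (classOrder.getD i.val 0) (0, 0, 0)).1 =
        (classList.getD (classOrder.getD j.val 0) (0, 0, 0)).1 := by
      rw [← hnorm _ (hmem _ (hord i)), ← hnorm _ (hmem _ (hord j))]
      exact mkTbl_congr 24 fun p hp => hi.tblAt_eq (hvt j) hp
    have hP := CfsgLib.OutMathieu.pairwise_of_increasing hinc
    rw [List.pairwise_map, List.pairwise_iff_getElem] at hP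
    have li : i.val < classOrder.length := by omega
    have lj : j.val < classOrder.length := by omega
    simp only [List.getD_eq_getElem classOrder 0 li, List.getD_eq_getElem classOrder 0 lj] at heq
    rcases lt_trichotomy i.val j.val with h | h | h
    · exact absurd heq (hP i j li lj h).ne
    · exact Fin.ext h
    · exact absurd heq (hP j i lj li h).ne'
  have := Nat.card_le_card_of_injective F hF
  rwa [Nat.card_fin] at this

theorem card_inf_ge {H : Subgroup (Equiv.Perm GolayPt)} (hH : P4 ≤ H) :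
    192 ≤ Nat.card ↥(H ⊓ Subgroup.centralizer ({eP kz} : Set (Equiv.Perm GolayPt))) := by
  let F : I → ↥(H ⊓ Subgroup.centralizer ({eP kz} : Set (Equiv.Perm GolayPt))) := fun i =>
    ⟨eP i, hH (eP_mem_P4 i), Subgroup.mem_centralizer_singleton_iff.2 (eP_comm i)⟩
  have := Nat.card_le_card_of_injective F fun i j e => eP_injective (congrArg Subtype.val e)
  rwa [Nat.card_fin] at this

theorem P4_eq : P4 = stabK [dodMask] := by
  refine Subgroup.eq_of_le_of_card_ge P4_le ?_
  rw [card_stabK_dodecad, card_orbit_conj P4 (eP kz)]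
  exact le_trans (by norm_num) (Nat.mul_le_mul (ncard_class le_rfl) (card_inf_ge le_rfl))

theorem exists_of_comm {g : Equiv.Perm GolayPt} (hg : g ∈ stabK [dodMask])
    (hc : g * eP kz = eP kz * g) : ∃ i, eP i = g := by
  set D := stabK [dodMask] ⊓ Subgroup.centralizer ({eP kz} : Set (Equiv.Perm GolayPt)) with hD
  have hD192 : Nat.card D ≤ 192 := by
    have h := card_orbit_conj (stabK [dodMask]) (eP kz)
    rw [card_stabK_dodecad, ← hD] at h
    have := Nat.mul_le_mul_right (Nat.card D) (ncard_class P4_le)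
    omega
  let F : I → D := fun i =>
    ⟨eP i, eP_mem i, Subgroup.mem_centralizer_singleton_iff.2 (eP_comm i)⟩
  have hF : Function.Bijective F :=
    Function.Injective.bijective_of_nat_card_le
      (fun i j e => eP_injective (congrArg Subtype.val e)) (by rwa [Nat.card_fin])
  obtain ⟨i, hi⟩ := hF.2 ⟨g, hg, Subgroup.mem_centralizer_singleton_iff.2 hc⟩
  exact ⟨i, congrArg Subtype.val hi⟩

open Cfsg.Spor in
/-- The involution of the model. -/
noncomputable def zM : ↥M12 := ⟨eP kz, M12_eq_stabK ▸ eP_mem kz⟩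

/-- The centraliser in the Mathieu group. -/
noncomputable def modelCtr : Ctr zM where
  φ i := ⟨eP i, M12_eq_stabK ▸ eP_mem i⟩
  inj i j e := eP_injective (congrArg Subtype.val e)
  map_mul i j := Subtype.ext (eP_mul i j)
  z_eq := rfl
  surj g hg := by
    obtain ⟨i, hi⟩ := exists_of_comm (M12_eq_stabK ▸ g.2) (congrArg Subtype.val hg)
    exact ⟨i, Subtype.ext hi⟩

theorem isSimpleGroup_M12 : IsSimpleGroup ↥Cfsg.Spor.M12 := by
  have h := isSimpleGroup_dodecad dodMask_mem
  rw [stabilizer_dodMask] at h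
  haveI := h
  rw [M12_eq_stabK]
  exact (Subgroup.subgroupOfEquivOfLe (stabK_le_M24 _)).symm.isSimpleGroup

open CfsgLib.FusionSub.Mathieu in
/-- An involution in the centre of a Sylow subgroup is conjugate to the involution of the model. -/
theorem conj_two_central {u : ↥Cfsg.Spor.M12} (hu : Cfsg.IsTwoCentralInvolution u) :
    ∃ g : ↥Cfsg.Spor.M12, g * u * g⁻¹ = zM := by
  haveI : Fact (Nat.Prime 2) := ⟨Nat.prime_two⟩
  obtain ⟨hu2, P, huP, hcP⟩ := hu
  have hK : Cfsg.Spor.M12 = stabK certM12.sets := M12_eq_stabK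
  have hle : certM12.grp ≤ Cfsg.Spor.M12 := hK ▸ SylCert.grp_le certM12_els
  have hcard : Nat.card ↥Cfsg.Spor.M12 = 2 ^ 6 * 1485 := by
    rw [M12_eq_stabK, card_stabK_dodecad]
    norm_num
  obtain ⟨S, hS⟩ : ∃ S : Sylow 2 ↥Cfsg.Spor.M12,
      (S : Subgroup ↥Cfsg.Spor.M12) = certM12.grp.subgroupOf Cfsg.Spor.M12 := by
    refine ⟨Sylow.ofCard (certM12.grp.subgroupOf Cfsg.Spor.M12) ?_, rfl⟩
    have e6 : ((2 : ℕ) ^ 6 * 1485).factorization 2 = 6 := by
      rw [Nat.factorization_mul (pow_ne_zero _ two_ne_zero) (by norm_num), Finsupp.add_apply,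
        Nat.prime_two.factorization_pow, Finsupp.single_eq_same,
        Nat.factorization_eq_zero_of_not_dvd (show ¬ 2 ∣ 1485 by decide)]
    rw [Nat.card_congr (Subgroup.subgroupOfEquivOfLe hle).toEquiv, SylCert.card_grp certM12_els,
      hcard, e6]
    rfl
  obtain ⟨g, hg⟩ := MulAction.exists_smul_eq ↥Cfsg.Spor.M12 P S
  refine ⟨g, ?_⟩
  have hmem : ∀ x, x ∈ certM12.grp.subgroupOf Cfsg.Spor.M12 → g⁻¹ * x * g ∈ (P : Subgroup _) := by
    intro x hx
    rw [← hS, ← hg, Sylow.coe_subgroup_smul, Subgroup.mem_pointwise_smul_iff_inv_smul_mem] at hx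
    simpa [MulAut.smul_def] using hx
  set v := g * u * g⁻¹ with hv
  have hvS : v ∈ certM12.grp.subgroupOf Cfsg.Spor.M12 := by
    rw [← hS, ← hg, Sylow.coe_subgroup_smul, Subgroup.mem_pointwise_smul_iff_inv_smul_mem]
    simpa [hv, MulAut.smul_def, mul_assoc] using (show u ∈ (P : Subgroup ↥Cfsg.Spor.M12) from huP)
  have hcomm : ∀ x : Equiv.Perm GolayPt, x ∈ certM12.grp → x * (v : Equiv.Perm GolayPt) = v * x := by
    intro x hx
    have h := comm_conj g (hcP _ (hmem ⟨x, hle hx⟩ hx))
    rw [show g * (g⁻¹ * ⟨x, hle hx⟩ * g) * g⁻¹ = (⟨x, hle hx⟩ : ↥Cfsg.Spor.M12) by group, ← hv]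
      at h
    exact congrArg Subtype.val h
  have hv1 : v ≠ 1 := fun e => by
    rw [hv, conj_eq_one_iff] at e
    rw [e, orderOf_one] at hu2
    omega
  obtain ⟨t, ht, hty⟩ := (SylCert.mem_grp_iff certM12_els _).mp (Subgroup.mem_subgroupOf.1 hvS)
  have hc' := certM12_center
  simp only [SylCert.centerOK, Bool.and_eq_true, List.all_eq_true, Bool.or_eq_true, beq_iff_eq,
    List.any_eq_true, Bool.not_eq_true', beq_eq_false_iff_ne] at hc'
  rcases hc'.2 t ht with (he | he) | ⟨w, hw, hne⟩
  · exact absurd (Subtype.ext (hty.ext (he ▸ CfsgLib.OutMathieu.isTbl_idTbl))) hv1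
  · exact Subtype.ext (hty.ext (he ▸ els_check.2.2.1 ▸ (els_spec kz).1))
  · exfalso
    obtain ⟨x, hx, hxw⟩ := SylCert.gens_perm certM12_els hw
    refine hne (compTbl_eq (isTbl_compTbl hty hxw) ?_)
    rw [← hcomm x hx]
    exact isTbl_compTbl hxw hty

end CfsgLib.InvChar.MTwelve
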