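import Cfsg.Agent.Lib.InvChar.MTwelve.Table
import Mathlib.GroupTheory.SpecificGroups.Alternating

/-!
Finite counts for the order formula.
-/

set_option autoImplicit false
set_option maxRecDepth 100000

namespace CfsgLib.InvChar.MTwelve

/-- The index of a power. -/
def powI (w : I) : ℕ → I
  | 0 => 0
  | n + 1 => mul (powI w n) w

/-- Whether `x` is a power of `w`. -/
def hasPow (w x : I) : Bool := (List.range 24).any fun n => (powI w n).val == x.val

theorem pow_exponent : (all1 fun w => (powI w 24).val == 0) = true := by decide +kernel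

/-- The number of pairs with a property. -/
def cnt2 (P : I → I → Bool) : ℕ := ((List.range 192).map fun i => cnt (P (fin i))).sum

theorem cnt2_eq (P : I → I → Bool) : cnt2 P = Nat.card {p : I × I // P p.1 p.2 = true} := by
  classical
  rw [Nat.card_congr (Equiv.subtypeProdEquivSigmaSubtype fun i j => P i j = true), Nat.card_sigma]
  simp only [← cnt_eq]
  rw [cnt2]
  have h : ∀ i : I, cnt (P i) = (fun n : ℕ => cnt (P (fin n))) i.val := fun i => by
    show cnt (P i) = cnt (P (fin i.val))
    rw [fin_val]
  rw [Finset.sum_congr rfl fun i _ => h i]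
  exact (Fin.sum_univ_eq_sum_range (fun n => cnt (P (fin n))) 192).symm

/-- Being conjugate to `z` when `φ kd` is. -/
def zBig (i : I) : Bool := lab i == 1 || lab i == 2 || lab i == 4
/-- Being conjugate to `b` when `φ kd` is conjugate to `z`. -/
def sBig (i : I) : Bool := lab i == 3
/-- Being conjugate to `z` when `φ kd` is not. -/
def zSmall (i : I) : Bool := lab i == 1 || lab i == 2
/-- Being conjugate to `b` when `φ kd` is. -/
def sSmall (i : I) : Bool := lab i == 3 || lab i == 4

theorem count_check :
    cnt2 (fun i j => zBig i && (sBig j && hasPow (mul i j) kz)) = 240 ∧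
    cnt2 (fun i j => zSmall i && (sSmall j && hasPow (mul i j) kz)) = 48 ∧
    cnt2 (fun i j => (com i kb && zSmall i) && ((com j kb && sSmall j) && hasPow (mul i j) kb)) = 3 ∧
    cnt zBig = 31 := by
  decide +kernel

theorem d_check : (all1 fun i => !(lab i == 4) || (cnt (fun k => com k i && zBig k) == 7 &&
    lab (mul i kz) == 4 && !((mul i kz).val == i.val))) = true ∧
    cnt (fun i => lab i == 4) = 24 := by
  decide +kernel

theorem five_exponent : ∀ g : alternatingGroup (Fin 5), g ^ 30 = 1 := by decide +kernel

theorem five_count : ∀ i : alternatingGroup (Fin 5), i ≠ 1 → i * i = 1 →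
    (Finset.univ.filter fun g : alternatingGroup (Fin 5) =>
      g ^ 15 = 1 ∧ i * g * i⁻¹ = g⁻¹).card = 13 := by
  decide +kernel

end CfsgLib.InvChar.MTwelve
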