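import Cfsg.Agent.Lib.InvChar.MTwelve.Table

/-!
Finite checks on the group of order 192.
-/

set_option autoImplicit false
set_option maxRecDepth 100000

namespace CfsgLib.InvChar.MTwelve

/-- The order of the centraliser. -/
def cc (i : I) : ℕ := cnt fun k => com k i

/-- The centre and the inverse. -/
theorem one_inv_check : mul 0 0 = 0 ∧ (all1 fun i => (mul i (inv i)).val == 0 && com i kz) = true := by
  decide +kernel

theorem lab_check : (all1 fun i =>
    ((lab i == 0) == ((i.val == 0) || !((mul i i).val == 0))) && (lab i ≤ 4 : Bool)) = true := by
  decide +kernel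

theorem cc_check : (all1 fun i =>
    (!(lab i == 1) || (cc i == 192 && i.val == kz.val)) && (!(lab i == 2) || cc i == 32) &&
    (!(lab i == 3) || cc i == 16) && (!(lab i == 4) || cc i == 8)) = true := by
  decide +kernel

theorem lab_rep : lab kz = 1 ∧ lab ka = 2 ∧ lab kb = 3 ∧ lab kf = 3 ∧ lab kd = 4 ∧
    mul kz ka = kza ∧ lab kza = 2 := by decide +kernel

theorem class_check : (all1 fun i => (!(lab i == 2) || any1 fun g => (cj g ka).val == i.val) &&
    (!(lab i == 3) || any1 fun g => (cj g kb).val == i.val) &&
    (!(lab i == 4) || any1 fun g => (cj g kd).val == i.val)) = true := by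
  decide +kernel

theorem syl_check : cnt inS = 64 ∧ cnt inM = 32 ∧ inS 0 = true ∧ inM 0 = true ∧
    (all1 fun i => (!inS i || all1 fun j => !inS j || inS (mul i j)) &&
      (!inM i || (inS i && all1 fun j => !inM j || inM (mul i j))) &&
      (!inS i || i.val == 0 || i.val == kz.val || any1 fun j => inS j && !com i j) &&
      (!inM i || !(lab i == 4))) = true := by
  decide +kernel

theorem kd_mem : inS kd = true ∧ inM kd = false := by decide +kernel

theorem eb_check : cnt inEb = 8 ∧ cnt inU = 4 ∧ inEb 0 = true ∧ inU 0 = true ∧
    (all1 fun i => (!inEb i || (com i kb && all1 fun j => !inEb j || inEb (mul i j))) &&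
      (!inU i || (inEb i && all1 fun j => !inU j || inU (mul i j))) &&
      (inU i == (i.val == 0 || i.val == kz.val || i.val == ka.val || i.val == kza.val)) &&
      (!com i kb || !(lab i == 1 || lab i == 2) || inU i) &&
      (!com i kb || !(lab i == 4)) &&
      (!inEb i || inU i || inU (mul kb i))) = true := by
  decide +kernel

/-- Commutators in the centraliser of an involution of the third kind. -/
theorem comm_check : (all1 fun j => !(lab j == 3) || all1 fun p => !com p j || all1 fun q =>
    !com q j || (let c := mul (mul p q) (mul (inv p) (inv q)); c.val == 0 || c.val == kz.val)) = true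
    ∧ (any1 fun p => com p kb && any1 fun q => com q kb &&
      (mul (mul p q) (mul (inv p) (inv q))).val == kz.val) = true := by
  decide +kernel

theorem times_z_check : (all1 fun i => !(lab i == 2) || lab (mul i kz) == 2) = true ∧
    (any1 fun i => lab i == 2 && com i kd && lab (mul i kd) == 4) = true := by
  decide +kernel

/-- An element moving `j` to `j z` in the centraliser of `b`. -/
theorem swap_check : (all1 fun j => !(lab j == 2) || all1 fun b => !(lab b == 3) || !com j b ||
    any1 fun q => com q b && (cj q j).val == (mul j kz).val) = true := by
  decide +kernel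

theorem fb_check : (com kf kb && com ka kb && !inEb kf && (mul kf kf).val == 0 &&
    (cj kf ka).val == kza.val && (cj kf kza).val == ka.val && lab (mul kb kz) == 3 &&
    lab (mul kb ka) == 3 && lab (mul kb kza) == 3 && lab (mul kf kb) == 3) = true := by
  decide +kernel

theorem z_square : (any1 fun q => com q kb && (mul q q).val == kz.val) = true := by decide +kernel

/-- No square root of `b` in its centraliser. -/
theorem sqrt_check : (all1 fun i => !com i kb || !((mul i i).val == kb.val)) = true := by
  decide +kernel

end CfsgLib.InvChar.MTwelve
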