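import Cfsg.Agent.Lib.InvChar.MTwelve.Table
import Cfsg.Agent.Lib.SporRecognition.CosetCert.Upper

/-!
Words and data for the uniqueness: letters `0`, `1` generate the centraliser of the involution and
`2`, `3` an alternating group of degree five.
-/

set_option autoImplicit false
set_option maxRecDepth 100000

namespace CfsgLib.InvChar.MTwelve

/-- Words. -/
abbrev Wd := List (Fin 4 × Bool)

/-- Inverse word. -/
def wInv (w : Wd) : Wd := w.reverse.map fun x => (x.1, !x.2)

/-- A word in the generators of the alternating group; `true` is the second generator. -/
def aWd (w : List Bool) : Wd := w.map fun x => (bif x then 3 else 2, true)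

/-- First generator of the centraliser. -/
def kc1 : I := fin 5
/-- Second generator of the centraliser. -/
def kc2 : I := fin 29
/-- Generators of the centraliser of the four group. -/
def kg3 : I := fin 1
/-- Generators of the centraliser of the four group. -/
def kg4 : I := fin 16
/-- Image of `kg3`. -/
def km3 : I := fin 144
/-- Image of `kg4`. -/
def km4 : I := fin 160
/-- The element of the four group in the image of the first generator. -/
def kv : I := fin 3

/-- Element words of the centraliser. -/
def cWords : List Wd := [
  [],
  [(1, false), (0, false), (1, true), (1, true)],
  [(1, false), (1, false), (0, true), (1, true)],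
  [(0, true), (1, true), (1, true), (1, true), (0, true), (1, false)],
  [(0, true), (1, false), (0, false), (1, true), (1, true)],
  [(0, true)],
  [(0, false), (1, true), (1, true), (1, true), (0, true), (1, false)],
  [(1, true), (1, true), (0, false), (1, false)],
  [(0, false)],
  [(0, false), (1, false), (0, false), (1, true), (1, true)],
  [(1, true), (1, true), (1, true), (0, true), (1, false)],
  [(0, true), (1, true), (1, true), (0, false), (1, false)],
  [(1, true), (0, false), (1, false), (1, false), (1, false), (0, true)],
  [(0, true), (1, true), (0, true), (1, false), (1, false)],
  [(0, true), (1, true), (0, false), (1, false), (1, false), (1, false)],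
  [(0, true), (1, true), (0, false), (1, true), (1, true), (1, true), (0, true), (1, true)],
  [(0, true), (1, true), (0, false), (1, false), (1, false), (1, false), (0, true)],
  [(0, false), (1, true), (0, true), (1, false), (1, false)],
  [(1, true), (0, true), (1, true), (1, true), (1, true), (0, false), (1, true)],
  [(0, false), (1, true), (0, false), (1, false), (1, false), (1, false)],
  [(1, true), (0, true), (1, false), (1, false)],
  [(1, true), (0, true), (1, true), (0, false), (1, false), (1, false)],
  [(1, true), (0, false), (1, false), (1, false), (1, false)],
  [(1, true), (0, false), (1, true), (1, true), (1, true), (0, true), (1, true)],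
  [(0, false), (1, false), (0, true), (1, true), (1, true)],
  [(0, false), (1, false), (0, false), (1, true)],
  [(0, true), (1, true), (0, false), (1, true), (1, true), (1, true), (0, true)],
  [(0, false), (1, false), (0, false), (1, false), (0, true), (1, true)],
  [(1, false), (0, true), (1, true)],
  [(1, true)],
  [(0, false), (1, true), (0, false), (1, true), (1, true)],
  [(0, false), (1, true), (1, true)],
  [(1, false), (0, false), (1, true), (0, true), (1, true)],
  [(1, false), (0, true), (1, true), (0, false)],
  [(1, true), (0, true)],
  [(0, true), (1, true), (0, true), (1, true), (0, true)],
  [(1, false), (1, false), (0, false), (1, true)],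
  [(0, false), (1, true), (1, true), (0, false)],
  [(0, true), (1, true), (1, true), (1, true), (0, false)],
  [(0, false), (1, true), (0, true), (1, true), (1, true), (1, true)],
  [(1, true), (0, false)],
  [(0, true), (1, true), (0, true), (1, true)],
  [(0, false), (1, true), (1, true), (0, true)],
  [(0, true), (1, true), (1, true), (1, true)],
  [(0, true), (1, true), (0, false), (1, true), (1, true), (1, true)],
  [(0, true), (1, true), (0, false), (1, true), (0, true), (1, true)],
  [(0, true), (1, true), (1, true), (1, true), (0, true)],
  [(0, true), (1, true), (0, true), (1, true), (0, false)],
  [(1, false), (0, false), (1, true)],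
  [(1, false), (0, true), (1, true), (1, true)],
  [(1, false), (0, false), (1, false), (0, true), (1, true)],
  [(1, true), (0, true), (1, true), (1, true), (1, true), (0, false)],
  [(0, true), (1, false), (0, false), (1, true), (0, true), (1, true)],
  [(1, false), (0, false), (1, true), (0, true)],
  [(0, false), (1, true), (0, true), (1, true), (0, true)],
  [(0, true), (1, true), (0, true)],
  [(0, true), (1, false), (0, true), (1, true)],
  [(0, true), (1, true)],
  [(1, true), (1, true)],
  [(1, true), (0, false), (1, true), (1, true)],
  [(0, false), (1, true), (0, false), (1, true), (1, true), (1, true)],
  [(1, false), (0, true), (1, false), (0, false), (1, true)],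
  [(0, false), (1, true), (0, true), (1, true), (0, false)],
  [(0, false), (1, true), (1, true), (1, true), (0, true)],
  [(0, false), (1, true), (0, true), (1, true)],
  [(0, true), (1, true), (0, false)],
  [(0, false), (1, true), (1, true), (1, true)],
  [(1, true), (1, true), (0, true)],
  [(0, true), (1, false), (1, false), (0, false), (1, true)],
  [(1, true), (1, true), (0, false)],
  [(1, true), (0, true), (1, true), (1, true), (1, true)],
  [(0, false), (1, true), (1, true), (1, true), (0, false)],
  [(0, true), (1, false), (0, true), (1, true), (1, true)],
  [(0, true), (1, false), (0, false), (1, true)],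
  [(0, true), (1, false), (0, false), (1, false), (0, true), (1, true)],
  [(1, true), (0, false), (1, true), (1, true), (1, true), (0, true)],
  [(0, false), (1, false), (0, true), (1, true)],
  [(0, false), (1, true)],
  [(0, true), (1, true), (1, true)],
  [(0, true), (1, true), (0, false), (1, true), (1, true)],
  [(1, false), (0, true), (1, true), (0, false), (1, true)],
  [(0, true), (1, false), (0, false), (1, true), (0, true)],
  [(0, false), (1, true), (0, true)],
  [(1, true), (0, true), (1, true), (0, true)],
  [(0, false), (1, true), (0, false)],
  [(1, true), (0, true), (1, true)],
  [(1, true), (1, true), (1, true)],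
  [(0, true), (1, true), (1, true), (0, true)],
  [(1, true), (0, false), (1, true), (1, true), (1, true)],
  [(1, true), (0, false), (1, true), (0, true), (1, true)],
  [(1, true), (0, true), (1, true), (0, false)],
  [(1, true), (1, true), (1, true), (0, true)],
  [(1, false), (1, false), (0, true), (1, false)],
  [(0, true), (1, true), (1, true), (0, false)],
  [(1, true), (1, true), (1, true), (0, false)],
  [(0, true), (1, true), (0, true), (1, true), (1, true), (1, true)],
  [(1, false)],
  [(0, true), (1, false), (1, false), (0, true)],
  [(0, false), (1, false), (1, false), (1, false), (0, false)],
  [(0, false), (1, false), (0, false), (1, false), (0, false)],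
  [(0, false), (1, false), (0, false), (1, false), (0, true)],
  [(1, false), (0, true)],
  [(1, true), (0, false), (1, false)],
  [(0, true), (1, true), (0, true), (1, true), (0, false), (1, false)],
  [(1, false), (0, false)],
  [(0, true), (1, true), (0, true), (1, false)],
  [(1, true), (1, true), (0, true), (1, false)],
  [(0, true), (1, false), (1, false), (0, false)],
  [(0, true), (1, true), (0, false), (1, true), (0, true), (1, false)],
  [(1, true), (0, false), (1, false), (0, true)],
  [(0, true), (1, false), (0, true), (1, false), (1, false)],
  [(0, true), (1, true), (1, true), (1, true), (0, false), (1, true)],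
  [(0, true), (1, false), (1, false)],
  [(0, true), (1, true), (0, false), (1, false), (1, false)],
  [(0, false), (1, true), (1, true), (1, true), (0, true), (1, true)],
  [(0, false), (1, false), (1, false), (1, false)],
  [(0, false), (1, false), (1, false), (1, false), (0, true)],
  [(0, false), (1, false), (0, false), (1, false)],
  [(1, true), (0, true), (1, false), (0, false), (1, false)],
  [(0, true), (1, true), (0, false), (1, false), (0, true), (1, false), (1, false)],
  [(0, false), (1, true), (0, false), (1, true)],
  [(1, true), (0, true), (1, false), (0, false), (1, true)],
  [(0, false), (1, true), (0, true), (1, true), (1, true)],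
  [(0, true), (1, true), (0, false), (1, true), (0, true)],
  [(1, true), (0, false), (1, false), (0, true), (1, true)],
  [(1, true), (0, false), (1, true)],
  [(1, false), (0, true), (1, false), (0, false)],
  [(1, true), (0, true), (1, true), (1, true)],
  [(0, true), (1, true), (0, false), (1, true)],
  [(0, true), (1, true), (0, false), (1, false), (0, true), (1, true)],
  [(1, true), (0, false), (1, true), (0, true)],
  [(0, true), (1, true), (0, true), (1, true), (1, true)],
  [(1, false), (0, true), (1, false)],
  [(0, true), (1, false), (1, false), (0, false), (1, false)],
  [(0, false), (1, true), (1, true), (1, true), (1, true)],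
  [(0, false), (1, false), (0, false), (1, false), (1, false)],
  [(0, true), (1, false), (0, true), (1, false)],
  [(1, true), (1, true), (0, true), (1, true)],
  [(1, false), (0, false), (1, false), (1, false)],
  [(1, true), (1, true), (1, true), (1, true)],
  [(1, false), (1, false), (0, false), (1, false)],
  [(0, false), (1, false), (0, true), (1, false)],
  [(0, true), (1, true), (1, true), (1, true), (1, true)],
  [(0, true), (1, false), (0, false), (1, false), (1, false)],
  [(0, true), (1, false)],
  [(0, false), (1, false), (1, false), (0, true)],
  [(1, false), (0, false), (1, false), (0, false)],
  [(1, false), (1, false), (1, false), (0, false)],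
  [(1, false), (0, false), (1, false), (0, true)],
  [(0, true), (1, false), (0, true)],
  [(0, false), (1, true), (0, true), (1, true), (0, false), (1, false)],
  [(0, true), (1, true), (0, false), (1, false)],
  [(0, true), (1, false), (0, false)],
  [(0, false), (1, true), (0, true), (1, false)],
  [(1, true), (1, true), (0, false), (1, true)],
  [(0, false), (1, false), (1, false), (0, false)],
  [(1, false), (1, false), (1, false), (0, true)],
  [(1, false), (0, false), (1, false)],
  [(1, true), (0, false), (1, false), (0, true), (1, false)],
  [(1, true), (0, true), (1, false), (0, false), (1, false), (1, false)],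
  [(1, true), (0, true), (1, true), (0, false), (1, true)],
  [(0, true), (1, true), (0, false), (1, false), (0, true)],
  [(0, false), (1, true), (1, true), (1, true), (0, false), (1, true)],
  [(0, false), (1, false), (0, true), (1, false), (1, false)],
  [(0, false), (1, false), (1, false)],
  [(0, false), (1, true), (0, false), (1, false), (1, false)],
  [(1, false), (1, false), (1, false)],
  [(1, true), (1, true), (1, true), (0, true), (1, true)],
  [(1, false), (1, false), (0, true)],
  [(0, false), (1, false)],
  [(0, true), (1, false), (1, false), (1, false), (0, false)],
  [(0, true), (1, false), (0, false), (1, false), (0, false)],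
  [(0, false), (1, false), (0, false)],
  [(1, true), (0, true), (1, false)],
  [(1, false), (1, false), (0, false)],
  [(0, true), (1, true), (1, true), (0, false), (1, true)],
  [(0, true), (1, false), (0, false), (1, false), (0, true)],
  [(0, false), (1, false), (0, true)],
  [(0, false), (1, true), (0, false), (1, false)],
  [(1, true), (0, true), (1, true), (0, false), (1, false)],
  [(1, false), (1, false)],
  [(1, true), (0, false), (1, false), (1, false)],
  [(0, true), (1, true), (1, true), (1, true), (0, true), (1, true)],
  [(0, true), (1, false), (1, false), (1, false)],
  [(1, true), (0, true), (1, false), (0, false)],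
  [(1, true), (0, false), (1, true), (0, true), (1, false)],
  [(1, false), (0, true), (1, false), (1, false)],
  [(1, true), (1, true), (1, true), (0, false), (1, true)],
  [(0, true), (1, false), (1, false), (1, false), (0, true)],
  [(0, true), (1, false), (0, false), (1, false)],
  [(1, true), (0, false), (1, false), (0, true), (1, false), (1, false)],
  [(0, true), (1, true), (0, false), (1, false), (0, true), (1, false)]]

/-- The word of an element of the centraliser. -/
def cWd (i : I) : Wd := cWords.getD i.val []

/-- Words of the elements of the alternating group in the two generators. -/
def aWords : List (List Bool) := [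
  [],
  [false],
  [true],
  [false, false],
  [false, true],
  [true, false],
  [false, false, true],
  [false, true, false],
  [true, false, false],
  [true, false, true],
  [false, false, true, false],
  [false, true, false, false],
  [false, true, false, true],
  [true, false, false, true],
  [true, false, true, false],
  [false, false, true, false, false],
  [false, false, true, false, true],
  [false, true, false, false, true],
  [false, true, false, true, false],
  [true, false, false, true, false],
  [true, false, true, false, false],
  [true, false, true, false, true],
  [false, false, true, false, false, true],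
  [false, false, true, false, true, false],
  [false, true, false, false, true, false],
  [false, true, false, true, false, false],
  [false, true, false, true, false, true],
  [true, false, false, true, false, true],
  [true, false, true, false, false, true],
  [false, false, true, false, false, true, false],
  [false, false, true, false, true, false, false],
  [false, false, true, false, true, false, true],
  [false, true, false, false, true, false, true],
  [false, true, false, true, false, false, true],
  [true, false, false, true, false, true, false],
  [true, false, true, false, false, true, false],
  [false, false, true, false, false, true, false, true],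
  [false, false, true, false, true, false, false, true],
  [false, true, false, false, true, false, true, false],
  [false, true, false, true, false, false, true, false],
  [true, false, false, true, false, true, false, false],
  [true, false, false, true, false, true, false, true],
  [true, false, true, false, false, true, false, true],
  [false, false, true, false, false, true, false, true, false],
  [false, false, true, false, true, false, false, true, false],
  [false, true, false, false, true, false, true, false, false],
  [false, true, false, false, true, false, true, false, true],
  [false, true, false, true, false, false, true, false, true],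
  [true, false, false, true, false, true, false, false, true],
  [true, false, true, false, false, true, false, true, false],
  [false, false, true, false, false, true, false, true, false, false],
  [false, false, true, false, false, true, false, true, false, true],
  [false, false, true, false, true, false, false, true, false, true],
  [false, true, false, false, true, false, true, false, false, true],
  [true, false, false, true, false, true, false, false, true, false],
  [true, false, true, false, false, true, false, true, false, false],
  [false, true, false, false, true, false, true, false, false, true, false],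
  [true, false, false, true, false, true, false, false, true, false, true],
  [true, false, true, false, false, true, false, true, false, false, true],
  [false, true, false, false, true, false, true, false, false, true, false, true]]

/-- A word of an element of the alternating group. -/
def aw5 (i : Fin 60) : List Bool := aWords.getD i.val []

/-- Index of the first involution. -/
def iz0 : Fin 60 := 46
/-- Index of the second involution. -/
def ia0 : Fin 60 := 44
/-- Index of an element of order three. -/
def ix0 : Fin 60 := 38
/-- Index of the first generator. -/
def ir0 : Fin 60 := 1
/-- Index of the second generator. -/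
def iw0 : Fin 60 := 2
/-- Index of the conjugate of the first generator. -/
def isr : Fin 60 := 37
/-- Index of the conjugate of the second generator. -/
def isw : Fin 60 := 2
/-- The word of a conjugate generator. -/
def vword : List Bool := [false, false, true, false, true, false, false, true, false]

/-- Words of the centraliser of the four group in `kb`, `kz`, `ka`, `kg3`, `kg4`. -/
def taWords : List (List (Fin 5)) := [
  [],
  [3],
  [2, 3],
  [2],
  [],
  [],
  [],
  [],
  [],
  [],
  [],
  [],
  [],
  [],
  [],
  [],
  [4],
  [3, 4],
  [4, 3],
  [2, 4],
  [],
  [],
  [],
  [],
  [0, 3],
  [0],
  [0, 2],
  [3, 0],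
  [],
  [],
  [],
  [],
  [],
  [],
  [],
  [],
  [],
  [],
  [],
  [],
  [0, 3, 4],
  [0, 4],
  [0, 2, 4],
  [0, 4, 3],
  [],
  [],
  [],
  [],
  [],
  [],
  [],
  [],
  [],
  [],
  [],
  [],
  [],
  [],
  [],
  [],
  [],
  [],
  [],
  [],
  [],
  [],
  [],
  [],
  [],
  [],
  [],
  [],
  [],
  [],
  [],
  [],
  [],
  [],
  [],
  [],
  [],
  [],
  [],
  [],
  [],
  [],
  [],
  [],
  [],
  [],
  [],
  [],
  [],
  [],
  [],
  [],
  [],
  [],
  [],
  [],
  [],
  [],
  [],
  [],
  [],
  [],
  [],
  [],
  [],
  [],
  [],
  [],
  [],
  [],
  [],
  [],
  [],
  [],
  [],
  [],
  [1, 2, 4],
  [1, 4, 3],
  [1, 3, 4],
  [1, 4],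
  [],
  [],
  [],
  [],
  [],
  [],
  [],
  [],
  [],
  [],
  [],
  [],
  [1, 2],
  [1, 2, 3],
  [1, 3],
  [1],
  [],
  [],
  [],
  [],
  [3, 4, 0],
  [2, 4, 0],
  [4, 0],
  [4, 3, 0],
  [],
  [],
  [],
  [],
  [],
  [],
  [],
  [],
  [],
  [],
  [],
  [],
  [1, 3, 0],
  [0, 1, 2],
  [0, 1],
  [0, 1, 3],
  [],
  [],
  [],
  [],
  [],
  [],
  [],
  [],
  [],
  [],
  [],
  [],
  [],
  [],
  [],
  [],
  [],
  [],
  [],
  [],
  [],
  [],
  [],
  [],
  [],
  [],
  [],
  []]

/-- The word of an element of the centraliser of the four group. -/
def taWd (i : I) : List (Fin 5) := taWords.getD i.val []

/-- An automorphism of the centraliser. -/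
def beta (i : I) : I := fin (Nat.land (Nat.shiftRight 0x34bebd37bb3132b839b63bb43db23fb044aead47ab4142a8a71d1ea418a2a11b9f209d229b249926972d2e942892912b048e8d078b01028809860b840d820f80147e7d177b111278775075524d724f706f486d4a6b5c695e59665b64635461565f685d6a655a67585760556253745176714e734c4b6c496eac4645af43a9aa40b13eb33cb53ab738bc3635bf33b9ba302f95962c902a29932798259a239c219e1fa5a61ca01a19a37c16157f13797a10810e830c850a87088c06058f03898a00 (8 * i.val)) 255)

/-- The first image of `kg3` in the other case. -/
def km3' : I := fin 40
/-- The first image of `kg4` in the other case. -/
def km4' : I := fin 27

/-- The relations of the alternating group with the centraliser. -/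
def allW : List Wd := [
  aWd [false, false, false],
  aWd [true, true],
  aWd [false, true, false, true, false, true, false, true, false, true],
  aWd (aw5 iz0) ++ wInv (cWd kz),
  aWd (aw5 ia0) ++ wInv (cWd ka),
  cWd kb ++ aWd [false] ++ wInv (cWd kb) ++ wInv (aWd [false]),
  cWd kb ++ aWd [true] ++ wInv (cWd kb) ++ wInv (aWd [true]),
  cWd kf ++ aWd [false] ++ wInv (cWd kf) ++ wInv (aWd (aw5 isr)),
  cWd kf ++ aWd [true] ++ wInv (cWd kf) ++ wInv (aWd (aw5 isw)),
  aWd [false] ++ cWd kg3 ++ wInv (aWd [false]) ++ wInv (cWd km3),
  aWd [false] ++ cWd kg4 ++ wInv (aWd [false]) ++ wInv (cWd km4),
  cWd kc1 ++ aWd (aw5 ix0) ++ wInv (cWd kc1) ++ wInv (aWd (aw5 ix0)),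
  cWd kc1 ++ cWd kc1 ++ cWd kc1,
  cWd kc2 ++ cWd kc2 ++ cWd kc2 ++ cWd kc2 ++ cWd kc2 ++ cWd kc2 ++ cWd kc2 ++ cWd kc2]

/-- Generators of the image of the centraliser. -/
def subW : List Wd := [[(0, true)], [(1, true)]]

/-- The letters. -/
def lets : List (Fin 4 × Bool) :=
  [(0, true), (0, false), (1, true), (1, false), (2, true), (2, false), (3, true), (3, false)]

end CfsgLib.InvChar.MTwelve
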