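import Cfsg.Agent.Lib.InvChar.MTwelve.Data

/-!
The alternating group of degree five on two generators.
-/

set_option autoImplicit false
set_option maxRecDepth 100000
set_option maxHeartbeats 1000000
set_option synthInstance.maxSize 2000
set_option synthInstance.maxHeartbeats 200000

namespace CfsgLib.InvChar.MTwelve

/-- The alternating group of degree five. -/
abbrev A5 := alternatingGroup (Fin 5)

/-- A three-cycle. -/
def r5 : A5 := ⟨Equiv.swap 1 2 * Equiv.swap 2 3, Equiv.Perm.mem_alternatingGroup.2 (by decide)⟩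

/-- An involution. -/
def w5 : A5 := ⟨Equiv.swap 0 1 * Equiv.swap 3 4, Equiv.Perm.mem_alternatingGroup.2 (by decide)⟩

/-- The transposition normalising the two involutions. -/
def s01 : Equiv.Perm (Fin 5) := Equiv.swap 0 1

/-- The value of a word in two elements. -/
def evB {H : Type*} [Monoid H] (r w : H) (l : List Bool) : H :=
  (l.map fun x => bif x then w else r).prod

theorem map_evB {H K F : Type*} [Monoid H] [Monoid K] [FunLike F H K] [MonoidHomClass F H K]
    (f : F) (r w : H) (l : List Bool) : f (evB r w l) = evB (f r) (f w) l := by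
  rw [evB, evB, map_list_prod, List.map_map]
  refine congrArg List.prod (List.map_congr_left fun x _ => ?_)
  cases x <;> rfl

/-- The elements. -/
def PA (i : Fin 60) : A5 := evB r5 w5 (aw5 i)

theorem PA_injective : Function.Injective PA := by
  unfold Function.Injective
  decide +kernel

theorem PA_surjective : Function.Surjective PA := by
  refine (Function.Injective.bijective_of_nat_card_le PA_injective ?_).2
  rw [nat_card_alternatingGroup, Nat.card_fin, Nat.card_fin]
  decide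

theorem five_small : PA ir0 = r5 ∧ PA iw0 = w5 ∧
    (PA isr : Equiv.Perm (Fin 5)) = s01 * (r5 : Equiv.Perm (Fin 5)) * s01 ∧
    (PA isw : Equiv.Perm (Fin 5)) = s01 * (w5 : Equiv.Perm (Fin 5)) * s01 ∧
    r5 * PA iz0 = PA ia0 * r5 ∧ r5 * PA ia0 = PA iz0 * PA ia0 * r5 ∧
    PA isr = PA ia0 * (r5 * r5) ∧
    s01 * (PA ix0 : Equiv.Perm (Fin 5)) = PA ix0 * s01 ∧
    PA ix0 * PA ix0 * PA ix0 = 1 ∧ PA ix0 ≠ 1 ∧ PA ix0 * PA ix0 ≠ 1 ∧
    PA iz0 * PA iz0 = 1 ∧ PA ia0 * PA ia0 = 1 ∧
    PA iz0 * PA ia0 = PA ia0 * PA iz0 := by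
  decide +kernel

theorem pair_check : ∀ i : Fin 60, PA i ≠ 1 → PA i * PA i = 1 → ∀ j : Fin 60, PA j ≠ 1 → PA j * PA j = 1 →
    PA i ≠ PA j → PA i * PA j = PA j * PA i → ∃ k : Fin 60, ∃ e : Bool,
      (bif e then s01 else 1) * (PA k : Equiv.Perm (Fin 5)) * (PA i : Equiv.Perm (Fin 5)) =
        (PA iz0 : Equiv.Perm (Fin 5)) * ((bif e then s01 else 1) * (PA k : Equiv.Perm (Fin 5))) ∧
      (bif e then s01 else 1) * (PA k : Equiv.Perm (Fin 5)) * (PA j : Equiv.Perm (Fin 5)) =
        (PA ia0 : Equiv.Perm (Fin 5)) * ((bif e then s01 else 1) * (PA k : Equiv.Perm (Fin 5))) := by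
  decide +kernel

theorem theta_check : ∀ i : Fin 60, PA i * PA i * PA i = 1 → ∀ j : Fin 60, PA j * PA j = 1 →
    evB (PA i) (PA j) [false, true, false, true, false, true, false, true, false, true] = 1 →
    evB (PA i) (PA j) (aw5 iz0) = PA iz0 →
    evB (PA i) (PA j) (aw5 ia0) = PA iz0 * PA ia0 →
    evB (PA i) (PA j) (aw5 i) = r5 → evB (PA i) (PA j) (aw5 j) = w5 →
    (PA i = PA isr ∧ PA j = PA isw) ∨
      (PA iz0 * PA i * PA iz0 = PA isr ∧ PA iz0 * PA j * PA iz0 = PA isw) := by
  decide +kernel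

theorem cent_check : ∀ k : Fin 60, PA k * PA k * PA k = 1 →
    s01 * (PA k : Equiv.Perm (Fin 5)) = PA k * s01 →
    PA k = 1 ∨ PA k = PA ix0 ∨ PA k = PA ix0 * PA ix0 := by
  decide +kernel

end CfsgLib.InvChar.MTwelve
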