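import Cfsg.Agent.Lib.InvChar.MTwelve.Setting
import Cfsg.Agent.Lib.Involutions.BrauerSuzuki
import Cfsg.Agent.Lib.Involutions.ThompsonTransfer
import Cfsg.Agent.Lib.Cores.PCore

/-!
Fusion of involutions.
-/

set_option autoImplicit false
set_option linter.unusedSectionVars false
set_option linter.style.haveILetI false

open Cfsg CfsgLib.Involutions

namespace CfsgLib.InvChar.MTwelve

universe u

/-- A subgroup of a `p`-group containing what normalises it is the whole group. -/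
theorem eq_of_normalizer_le {H : Type*} [Group H] [Finite H] {P T : Subgroup H} {p : ℕ}
    [Fact p.Prime] (hP : IsPGroup p P) (hTP : T ≤ P)
    (h : ∀ g ∈ P, (∀ t ∈ T, g * t * g⁻¹ ∈ T) → g ∈ T) : P = T := by
  refine le_antisymm ?_ hTP
  by_contra hne
  haveI : Group.IsNilpotent ↥P := hP.isNilpotent
  have hlt : T.subgroupOf P < ⊤ := lt_top_iff_ne_top.2 fun e =>
    hne (Subgroup.subgroupOf_eq_top.1 e)
  obtain ⟨y, hy, hyT⟩ := SetLike.exists_of_lt (Group.normalizerCondition_of_isNilpotent _ hlt)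
  refine hyT (h y y.2 fun t ht => ?_)
  exact (Subgroup.mem_normalizer_iff.1 hy ⟨t, hTP ht⟩).1 ht

/-- Conjugation carries a two-subgroup into a centraliser. -/
theorem map_conj_le {H : Type*} [Group H] {x y g : H} (h : g * x * g⁻¹ = y) {P : Subgroup H}
    (hP : P ≤ Subgroup.centralizer ({x} : Set H)) :
    P.map (MulAut.conj g).toMonoidHom ≤ Subgroup.centralizer ({y} : Set H) := by
  rintro _ ⟨w, hw, rfl⟩
  rw [Subgroup.mem_centralizer_singleton_iff, ← h]
  exact comm_conj g (Subgroup.mem_centralizer_singleton_iff.1 (hP hw))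

/-- The element `φ kb`. -/
abbrev Ctr.b {G : Type u} [Group G] {z : G} (X : Ctr z) : G := X.φ kb

/-- Its centraliser. -/
abbrev Ctr.L {G : Type u} [Group G] {z : G} (X : Ctr z) : Subgroup G :=
  Subgroup.centralizer ({X.b} : Set G)

/-- The centraliser of `z` and `φ kb`. -/
abbrev Ctr.T {G : Type u} [Group G] {z : G} (X : Ctr z) : Subgroup G :=
  Subgroup.centralizer ({z} : Set G) ⊓ X.L

namespace Ctr

variable {G : Type u} [Group G] [Finite G] {z : G} (X : Ctr z)
include X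

theorem mem_T (i : I) : X.φ i ∈ X.T ↔ com i kb = true := by
  rw [Subgroup.mem_inf, Subgroup.mem_centralizer_singleton_iff,
    Subgroup.mem_centralizer_singleton_iff, X.com_iff]
  exact ⟨fun h => h.2, fun h => ⟨X.comm_z i, h⟩⟩

theorem exists_of_mem_T {g : G} (hg : g ∈ X.T) : ∃ i, com i kb = true ∧ X.φ i = g := by
  obtain ⟨i, rfl⟩ := (X.mem_C g).1 hg.1
  exact ⟨i, (X.mem_T i).1 hg, rfl⟩

theorem card_T : Nat.card X.T = 16 := by
  rw [X.card_inf kb]
  exact (cc_of_lab).2.2.1 lab_rep.2.2.1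

theorem isPGroup_T : IsPGroup 2 X.T := IsPGroup.of_card (n := 4) (by rw [X.card_T]; norm_num)

theorem orderOf_b : orderOf X.b = 2 := X.orderOf_phi (by rw [lab_rep.2.2.1]; decide)

theorem not_conj_b : ¬ IsConj z X.b := by
  intro hzb
  obtain ⟨g, hg⟩ := isConj_iff.1 hzb.symm
  obtain ⟨j, hj, hcc, hmap⟩ := X.transport hg
  have hjord : orderOf (X.φ j) = 2 := by rw [hj, orderOf_conj, X.orderOf_z]
  obtain ⟨j', hj', hl⟩ := X.exists_index_of_involution hjord (X.comm_z j)
  rw [X.inj hj'] at hl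
  rw [(cc_of_lab).2.2.1 lab_rep.2.2.1] at hcc
  have hl3 : lab j = 3 := by
    rcases X.lab_cases hl with e | e | e | e
    · rw [((cc_of_lab).1 e).1] at hcc; omega
    · rw [(cc_of_lab).2.1 e] at hcc; omega
    · exact e
    · rw [(cc_of_lab).2.2.2 e] at hcc; omega
  obtain ⟨p, hp⟩ := any1_spec comm_check.2
  rw [Bool.and_eq_true] at hp
  obtain ⟨q, hq⟩ := any1_spec hp.2
  rw [Bool.and_eq_true, beq_iff_eq, ← Fin.ext_iff] at hq
  obtain ⟨p', hp', hpj⟩ := hmap p hp.1
  obtain ⟨q', hq', hqj⟩ := hmap q hq.1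
  have hc := all1_spec comm_check.1 j
  rw [hl3] at hc
  have hc1 := all1_spec (p := fun p => !com p j || all1 fun q => !com q j ||
    (let c := mul (mul p q) (mul (inv p) (inv q)); c.val == 0 || c.val == kz.val))
    (by simpa using hc) p'
  rw [hpj] at hc1
  have hc2 := all1_spec (p := fun q => !com q j ||
    (let c := mul (mul p' q) (mul (inv p') (inv q)); c.val == 0 || c.val == kz.val))
    (by simpa using hc1) q'
  rw [hqj] at hc2
  have e : mul (mul p' q') (mul (inv p') (inv q')) = j := by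
    apply X.inj
    have hw : X.φ (mul (mul p q) (mul (inv p) (inv q))) = z := by rw [hq.2, X.z_eq]
    rw [X.map_mul, X.map_mul, X.map_mul, X.map_inv, X.map_inv] at hw ⊢
    rw [hp', hq', hj]
    calc g * X.φ p * g⁻¹ * (g * X.φ q * g⁻¹) * ((g * X.φ p * g⁻¹)⁻¹ * (g * X.φ q * g⁻¹)⁻¹)
        = g * (X.φ p * X.φ q * ((X.φ p)⁻¹ * (X.φ q)⁻¹)) * g⁻¹ := by group
      _ = g * z * g⁻¹ := by rw [hw]
  simp only [e, Bool.not_true, Bool.false_or, Bool.or_eq_true, beq_iff_eq] at hc2
  rcases hc2 with h0 | h0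
  · rw [show j = 0 from Fin.ext h0] at hl3
    revert hl3; decide +kernel
  · rw [show j = kz from Fin.ext h0, lab_rep.1] at hl3
    omega

theorem normalizer_T {g : G} (hgL : g ∈ X.L) (hn : ∀ t ∈ X.T, g * t * g⁻¹ ∈ X.T) :
    g ∈ X.T := by
  obtain ⟨p, hp⟩ := any1_spec comm_check.2
  rw [Bool.and_eq_true] at hp
  obtain ⟨q, hq⟩ := any1_spec hp.2
  rw [Bool.and_eq_true, beq_iff_eq, ← Fin.ext_iff] at hq
  obtain ⟨p', hpj, hp'⟩ := X.exists_of_mem_T (hn _ ((X.mem_T p).2 hp.1))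
  obtain ⟨q', hqj, hq'⟩ := X.exists_of_mem_T (hn _ ((X.mem_T q).2 hq.1))
  have hc := all1_spec comm_check.1 kb
  rw [lab_rep.2.2.1] at hc
  have hc1 := all1_spec (p := fun p => !com p kb || all1 fun q => !com q kb ||
    (let c := mul (mul p q) (mul (inv p) (inv q)); c.val == 0 || c.val == kz.val))
    (by simpa using hc) p'
  rw [hpj] at hc1
  have hc2 := all1_spec (p := fun q => !com q kb ||
    (let c := mul (mul p' q) (mul (inv p') (inv q)); c.val == 0 || c.val == kz.val))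
    (by simpa using hc1) q'
  rw [hqj] at hc2
  have hw : X.φ (mul (mul p q) (mul (inv p) (inv q))) = z := by rw [hq.2, X.z_eq]
  have e : X.φ (mul (mul p' q') (mul (inv p') (inv q'))) = g * z * g⁻¹ := by
    rw [X.map_mul, X.map_mul, X.map_mul, X.map_inv, X.map_inv] at hw ⊢
    rw [hp', hq']
    calc g * X.φ p * g⁻¹ * (g * X.φ q * g⁻¹) * ((g * X.φ p * g⁻¹)⁻¹ * (g * X.φ q * g⁻¹)⁻¹)
        = g * (X.φ p * X.φ q * ((X.φ p)⁻¹ * (X.φ q)⁻¹)) * g⁻¹ := by group
      _ = g * z * g⁻¹ := by rw [hw]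
  simp only [Bool.not_true, Bool.false_or, Bool.or_eq_true, beq_iff_eq] at hc2
  rcases hc2 with h0 | h0
  · rw [show mul (mul p' q') (mul (inv p') (inv q')) = 0 from Fin.ext h0, X.map_one] at e
    have hz1 : z = 1 := conj_eq_one_iff.1 e.symm
    have := X.orderOf_z
    rw [hz1, orderOf_one] at this
    omega
  · rw [show mul (mul p' q') (mul (inv p') (inv q')) = kz from Fin.ext h0, X.z_eq] at e
    exact ⟨Subgroup.mem_centralizer_singleton_iff.2 (eq_mul_inv_iff_mul_eq.1 e).symm, hgL⟩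

theorem eq_T {P : Subgroup G} (hP : IsPGroup 2 P) (hPL : P ≤ X.L) (hTP : X.T ≤ P) : P = X.T := by
  haveI := Fact.mk Nat.prime_two
  exact eq_of_normalizer_le hP hTP fun g hg hn => X.normalizer_T (hPL hg) hn

/-- `T` is a Sylow subgroup of `C(b)`. -/
theorem sylow_T : ∃ Q : Sylow 2 ↥X.L, (Q : Subgroup ↥X.L) = X.T.subgroupOf X.L := by
  have hp : IsPGroup 2 ↥(X.T.subgroupOf X.L) :=
    X.isPGroup_T.of_equiv (Subgroup.subgroupOfEquivOfLe inf_le_right).symm
  obtain ⟨Q, hQ⟩ := hp.exists_le_sylow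
  refine ⟨Q, le_antisymm ?_ hQ⟩
  have h1 := X.eq_T (Q.isPGroup'.map X.L.subtype) (Subgroup.map_subtype_le _)
    (fun t ht => ⟨⟨t, ht.2⟩, hQ ht, rfl⟩)
  intro x hx
  show (x : G) ∈ X.T
  rw [← h1]
  exact ⟨x, hx, rfl⟩

theorem conj_into_T {P : Subgroup G} (hP : IsPGroup 2 P) (hPL : P ≤ X.L) :
    ∃ c ∈ X.L, ∀ x ∈ P, c * x * c⁻¹ ∈ X.T := by
  haveI := Fact.mk Nat.prime_two
  obtain ⟨Q0, hQ0⟩ := X.sylow_T
  obtain ⟨Q, hQ⟩ := (hP.of_equiv (Subgroup.subgroupOfEquivOfLe hPL).symm :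
    IsPGroup 2 ↥(P.subgroupOf X.L)).exists_le_sylow
  obtain ⟨c, hc⟩ := MulAction.exists_smul_eq ↥X.L Q Q0
  refine ⟨c, c.2, fun x hx => ?_⟩
  have h1 : c * ⟨x, hPL hx⟩ * c⁻¹ ∈ (Q0 : Subgroup ↥X.L) := by
    rw [← hc, Sylow.coe_subgroup_smul]
    exact ⟨⟨x, hPL hx⟩, hQ hx, rfl⟩
  rw [hQ0] at h1
  exact h1

theorem two_dvd_bound {P : Subgroup G} (hP : IsPGroup 2 P) (hPL : P ≤ X.L) :
    Nat.card P ≤ 16 := by
  obtain ⟨c, -, hc⟩ := X.conj_into_T hP hPL
  rw [← X.card_T]
  refine Nat.card_le_card_of_injective (fun x : P => (⟨c * x * c⁻¹, hc x x.2⟩ : X.T)) ?_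
  intro a b e
  exact Subtype.ext (mul_left_cancel (mul_right_cancel (congrArg Subtype.val e)))

theorem not_conj_a_b : ¬ IsConj (X.φ ka) X.b := by
  intro h
  obtain ⟨g, hg⟩ := isConj_iff.1 h
  set P := Subgroup.centralizer ({z} : Set G) ⊓ Subgroup.centralizer ({X.φ ka} : Set G) with hP
  have hPc : Nat.card P = 2 ^ 5 := by
    rw [hP, X.card_inf ka, (cc_of_lab).2.1 lab_rep.2.1]; norm_num
  have hle := X.two_dvd_bound ((IsPGroup.of_card hPc).map (MulAut.conj g).toMonoidHom)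
    (map_conj_le hg inf_le_right)
  rw [Subgroup.card_map_of_injective (MulAut.conj g).injective, hPc] at hle
  omega

theorem conj_a_of_conj_d (h : IsConj z (X.φ kd)) : IsConj z (X.φ ka) := by
  obtain ⟨g, hg⟩ := isConj_iff.1 h.symm
  obtain ⟨j, hj, hcc, hmap⟩ := X.transport hg
  rw [(cc_of_lab).2.2.2 lab_rep.2.2.2.2.1] at hcc
  obtain ⟨k, hk⟩ := any1_spec times_z_check.2
  simp only [Bool.and_eq_true, beq_iff_eq] at hk
  obtain ⟨k', hk', -⟩ := hmap k hk.1.2
  have hak : IsConj (X.φ ka) (X.φ k) := (X.conj_of_lab (i := k)).1 hk.1.1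
  have hkk : IsConj (X.φ k) (X.φ k') := isConj_iff.2 ⟨g, hk'.symm⟩
  have hl : lab k' ≠ 0 := by
    have hk0 := X.lab_ne_zero.1 (show lab k ≠ 0 by omega)
    refine X.lab_ne_zero.2 ⟨?_, ?_⟩ <;> rw [hk']
    · exact fun e => hk0.1 (conj_eq_one_iff.1 e)
    · calc g * X.φ k * g⁻¹ * (g * X.φ k * g⁻¹) = g * (X.φ k * X.φ k) * g⁻¹ := by group
        _ = 1 := by rw [hk0.2]; group
  rcases X.lab_cases hl with e | e | e | e
  · exfalso
    rw [((cc_of_lab).1 e).2, X.z_eq] at hk'
    have hkd : k = kd := X.inj (mul_left_cancel (mul_right_cancel (hk'.symm.trans hg.symm)))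
    rw [hkd, lab_rep.2.2.2.2.1] at hk
    omega
  · have h2 : lab (mul k' kz) = 2 := by
      have := all1_spec times_z_check.1 k'
      simpa [e] using this
    have hconj : IsConj (X.φ (mul k kd)) (X.φ (mul k' kz)) := isConj_iff.2 ⟨g, by
      rw [X.map_mul, X.map_mul, hk', X.z_eq]
      calc g * (X.φ k * X.φ kd) * g⁻¹ = g * X.φ k * g⁻¹ * (g * X.φ kd * g⁻¹) := by group
        _ = g * X.φ k * g⁻¹ * z := by rw [hg]⟩
    exact h.trans (((X.conj_of_lab (i := mul k kd)).2.2 hk.2).trans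
      (hconj.trans ((X.conj_of_lab (i := mul k' kz)).1 h2).symm))
  · exact absurd ((hak.trans hkk).trans ((X.conj_of_lab (i := k')).2.1 e).symm) X.not_conj_a_b
  · exact h.trans (((X.conj_of_lab (i := k')).2.2 e).trans (hak.trans hkk).symm)

theorem sylow_S : ∃ Q : Sylow 2 G, ∀ g, g ∈ Q ↔ ∃ i, inS i = true ∧ X.φ i = g := by
  haveI := Fact.mk Nat.prime_two
  obtain ⟨h64, -, h0, -, hall⟩ := syl_check
  have hall' : ∀ i, (inS i = true → ∀ j, inS j = true → inS (mul i j) = true) ∧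
      (inS i = true → i = 0 ∨ i = kz ∨ ∃ j, inS j = true ∧ com i j = false) := by
    intro i
    have h := all1_spec hall i
    simp only [Bool.and_eq_true, Bool.or_eq_true, Bool.not_eq_true', beq_iff_eq] at h
    refine ⟨fun hi j hj => ?_, fun hi => ?_⟩
    · have h2 := all1_spec (h.1.1.1.resolve_left (by simp [hi])) j
      simpa [hj] using h2
    · rcases h.1.2 with ((e | e) | e) | e
      · simp [hi] at e
      · exact Or.inl (Fin.ext e)
      · exact Or.inr (Or.inl (Fin.ext e))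
      · obtain ⟨j, hj⟩ := any1_spec e
        simp only [Bool.and_eq_true, Bool.not_eq_true'] at hj
        exact Or.inr (Or.inr ⟨j, hj⟩)
  let S := X.sub inS h0 fun i j hi hj => (hall' i).1 hi j hj
  have hmem : ∀ g, g ∈ S ↔ ∃ i, inS i = true ∧ X.φ i = g := fun g => Iff.rfl
  have hSc : Nat.card S = 64 := (X.card_image inS S hmem).trans h64
  obtain ⟨Q, hQ⟩ := (IsPGroup.of_card (n := 6) (by rw [hSc]; norm_num) :
    IsPGroup 2 S).exists_le_sylow
  have hzS : z ∈ S := (hmem z).2 ⟨kz, by decide +kernel, X.z_eq⟩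
  have hcap : (Q : Subgroup G) ⊓ Subgroup.centralizer ({z} : Set G) = S := by
    have hle : S ≤ (Q : Subgroup G) ⊓ Subgroup.centralizer ({z} : Set G) := le_inf hQ
      fun g hg => by obtain ⟨i, -, rfl⟩ := (hmem g).1 hg; exact (X.mem_C _).2 ⟨i, rfl⟩
    refine (Subgroup.eq_of_le_of_card_ge hle ?_).symm
    obtain ⟨n, hn⟩ := IsPGroup.iff_card.1 (Q.isPGroup'.to_le (inf_le_left :
      (Q : Subgroup G) ⊓ Subgroup.centralizer ({z} : Set G) ≤ Q))
    have hd := Subgroup.card_dvd_of_le (inf_le_right :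
      (Q : Subgroup G) ⊓ Subgroup.centralizer ({z} : Set G) ≤ _)
    rw [X.card_C, hn] at hd
    rw [hSc, hn]
    refine le_trans ?_ (le_refl (2 ^ 6))
    refine Nat.pow_le_pow_right (by norm_num) ?_
    by_contra hc
    have : 2 ^ 7 ∣ 192 := (pow_dvd_pow 2 (by omega)).trans hd
    omega
  have hQS : (Q : Subgroup G) = S := eq_of_normalizer_le Q.isPGroup' hQ fun g hg hn => by
    rw [← hcap]
    refine ⟨hg, Subgroup.mem_centralizer_singleton_iff.2 ?_⟩
    obtain ⟨i, hi, e⟩ := (hmem _).1 (hn z hzS)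
    rcases (hall' i).2 hi with rfl | rfl | ⟨j, hj, hij⟩
    · rw [X.map_one] at e
      have hz1 : z = 1 := conj_eq_one_iff.1 e.symm
      have := X.orderOf_z
      rw [hz1, orderOf_one] at this
      omega
    · rw [X.z_eq] at e
      exact (eq_mul_inv_iff_mul_eq.1 e).symm
    · exfalso
      have hj' : g⁻¹ * X.φ j * g ∈ S := by
        have hmap : S.map (MulAut.conj g).toMonoidHom = S :=
          Subgroup.eq_of_le_of_card_ge (by rintro _ ⟨t, ht, rfl⟩; exact hn t ht)
            (by rw [Subgroup.card_map_of_injective (MulAut.conj g).injective])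
        obtain ⟨t, ht, et⟩ := hmap.ge ((hmem _).2 ⟨j, hj, rfl⟩)
        have : t = g⁻¹ * X.φ j * g := by rw [← et]; simp [mul_assoc]
        exact this ▸ ht
      obtain ⟨k, -, ek⟩ := (hmem _).1 hj'
      have hc := comm_conj g (ek ▸ X.comm_z k).symm
      rw [← e, show g * (g⁻¹ * X.φ j * g) * g⁻¹ = X.φ j by group] at hc
      rw [(X.com_iff i j).2 hc] at hij
      exact Bool.noConfusion hij
  exact ⟨Q, fun g => by rw [← hmem g]; exact ⟨fun h => hQS ▸ h, fun h => hQ h⟩⟩

/-- Every involution is conjugate to one of four. -/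
theorem involution_classes {x : G} (hx : orderOf x = 2) :
    IsConj z x ∨ IsConj (X.φ ka) x ∨ IsConj X.b x ∨ IsConj (X.φ kd) x := by
  haveI := Fact.mk Nat.prime_two
  obtain ⟨Q, hQ⟩ := X.sylow_S
  obtain ⟨g, hg⟩ := exists_conj_mem_of_involution Q hx
  obtain ⟨i, -, e⟩ := (hQ _).1 hg
  have hl : lab i ≠ 0 := by
    refine X.lab_ne_zero.2 ⟨?_, ?_⟩ <;> rw [e]
    · intro h1
      rw [conj_eq_one_iff.1 h1, orderOf_one] at hx
      omega
    · rw [show g * x * g⁻¹ * (g * x * g⁻¹) = g * (x ^ 2) * g⁻¹ by rw [pow_two]; group, ← hx, pow_orderOf_eq_one]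
      group
  have hc : IsConj (X.φ i) x := (isConj_iff.2 ⟨g, e.symm⟩ : IsConj x (X.φ i)).symm
  rcases X.lab_cases hl with h | h | h | h
  · rw [((cc_of_lab).1 h).2, X.z_eq] at hc; exact Or.inl hc
  · exact Or.inr (Or.inl (((X.conj_of_lab (i := i)).1 h).trans hc))
  · exact Or.inr (Or.inr (Or.inl (((X.conj_of_lab (i := i)).2.1 h).trans hc)))
  · exact Or.inr (Or.inr (Or.inr (((X.conj_of_lab (i := i)).2.2 h).trans hc)))

variable [IsSimpleGroup G]

theorem oddCore_eq_bot : Cfsg.oddCore G = ⊥ := by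
  haveI : (Cfsg.oddCore G).Normal := by
    haveI := CfsgLib.Cores.pPrimeCore_characteristic 2 G
    rw [Cfsg.oddCore]; infer_instance
  rcases (inferInstance : (Cfsg.oddCore G).Normal).eq_bot_or_eq_top with h | h
  · exact h
  exfalso
  have h2 := CfsgLib.Cores.odd_card_oddCore (G := G)
  rw [h, Subgroup.card_top] at h2
  have h3 := orderOf_dvd_natCard z
  rw [X.orderOf_z] at h3
  exact (Nat.not_even_iff_odd.2 h2) (even_iff_two_dvd.2 h3)

variable (hG : ¬ IsMulCommutative G)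
include hG

theorem conj_z_a : IsConj z (X.φ ka) := by
  by_contra hna
  have hnd : ¬ IsConj z (X.φ kd) := fun h => hna (X.conj_a_of_conj_d h)
  obtain ⟨Q, hQ⟩ := X.sylow_S
  have hcen : z ∈ Subgroup.center G := by
    refine CfsgLib.Involutions.mem_center_of_isolated Q X.orderOf_z (fun g hg => ?_)
      (X.oddCore_eq_bot)
    obtain ⟨i, -, e⟩ := (hQ _).1 hg
    have hc : IsConj z (X.φ i) := isConj_iff.2 ⟨g, e.symm⟩
    have hl : lab i ≠ 0 := by
      refine X.lab_ne_zero.2 ⟨?_, ?_⟩ <;> rw [e]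
      · intro h1
        have h2 := X.orderOf_z
        rw [conj_eq_one_iff.1 h1, orderOf_one] at h2
        omega
      · rw [show g * z * g⁻¹ * (g * z * g⁻¹) = g * (z ^ 2) * g⁻¹ by rw [pow_two]; group, ← X.orderOf_z,
          pow_orderOf_eq_one]
        group
    rcases X.lab_cases hl with h | h | h | h
    · rw [← e, ((cc_of_lab).1 h).2, X.z_eq]
    · exact absurd (hc.trans ((X.conj_of_lab (i := i)).1 h).symm) hna
    · exact absurd (hc.trans ((X.conj_of_lab (i := i)).2.1 h).symm) X.not_conj_b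
    · exact absurd (hc.trans ((X.conj_of_lab (i := i)).2.2 h).symm) hnd
  rcases (IsSimpleGroup.eq_bot_or_eq_top_of_normal (Subgroup.center G)
    inferInstance) with h | h
  · rw [h, Subgroup.mem_bot] at hcen
    have h2 := X.orderOf_z
    rw [hcen, orderOf_one] at h2
    omega
  · exact hG ⟨⟨fun a b => (Subgroup.mem_center_iff.1 (h ▸ Subgroup.mem_top b) a)⟩⟩

/-- The involution `φ kd` is conjugate to `z` or to `φ kb`. -/
theorem conj_d_cases : IsConj z (X.φ kd) ∨ IsConj X.b (X.φ kd) := by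
  haveI := Fact.mk Nat.prime_two
  by_contra hcon
  push Not at hcon
  obtain ⟨h64, h32, -, h0, hall⟩ := syl_check
  have hall' : ∀ i, inM i = true → inS i = true ∧ lab i ≠ 4 ∧
      ∀ j, inM j = true → inM (mul i j) = true := by
    intro i hi
    have h := all1_spec hall i
    simp only [Bool.and_eq_true, Bool.or_eq_true, Bool.not_eq_true', beq_eq_false_iff_ne] at h
    have h2 := h.1.1.2.resolve_left (by simp [hi])
    exact ⟨h2.1, h.2.resolve_left (by simp [hi]), fun j hj => by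
      have := all1_spec h2.2 j
      simpa [hj] using this⟩
  let M := X.sub inM h0 fun i j hi hj => (hall' i hi).2.2 j hj
  have hmem : ∀ g, g ∈ M ↔ ∃ i, inM i = true ∧ X.φ i = g := fun g => Iff.rfl
  have hMc : Nat.card M = 32 := (X.card_image inM M hmem).trans h32
  obtain ⟨Q, hQ⟩ := X.sylow_S
  have hQc : Nat.card Q = 64 := (X.card_image inS (Q : Subgroup G) hQ).trans h64
  have hidx : M.index % 4 = 2 := by
    have h1 := M.card_mul_index
    have h2 := (Q : Subgroup G).card_mul_index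
    have h3 := Q.not_dvd_index
    rw [hMc] at h1
    rw [hQc] at h2
    omega
  obtain ⟨K, hK⟩ := CfsgLib.Involutions.exists_index_two_of_involution_not_conj (M := M)
    (x := X.φ kd) (X.orderOf_phi (by rw [lab_rep.2.2.2.2.1]; decide)) hidx (fun g hg => by
      obtain ⟨i, hi, e⟩ := (hmem _).1 hg
      have hc : IsConj (X.φ kd) (X.φ i) := isConj_iff.2 ⟨g, e.symm⟩
      have hl : lab i ≠ 0 := by
        have hd := X.lab_ne_zero.1 (show lab kd ≠ 0 by rw [lab_rep.2.2.2.2.1]; decide)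
        refine X.lab_ne_zero.2 ⟨?_, ?_⟩ <;> rw [e]
        · exact fun h1 => hd.1 (conj_eq_one_iff.1 h1)
        · calc g * X.φ kd * g⁻¹ * (g * X.φ kd * g⁻¹) = g * (X.φ kd * X.φ kd) * g⁻¹ := by group
            _ = 1 := by rw [hd.2]; group
      rcases X.lab_cases hl with h | h | h | h
      · rw [((cc_of_lab).1 h).2, X.z_eq] at hc; exact hcon.1 hc.symm
      · exact hcon.1 ((X.conj_z_a hG).trans (((X.conj_of_lab (i := i)).1 h).trans hc.symm))
      · exact hcon.2 (((X.conj_of_lab (i := i)).2.1 h).trans hc.symm)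
      · exact (hall' i hi).2.1 h)
  have hn := Subgroup.normal_of_index_eq_two hK
  rcases hn.eq_bot_or_eq_top with e | e
  · rw [e, Subgroup.index_bot] at hK
    have := Subgroup.card_le_of_le (le_top : Subgroup.centralizer ({z} : Set G) ≤ ⊤)
    rw [X.card_C, Subgroup.card_top, hK] at this
    omega
  · rw [e, Subgroup.index_top] at hK
    omega

end Ctr

end CfsgLib.InvChar.MTwelve
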