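import Cfsg.Agent.Lib.InvChar.MTwelve.Checks
import Cfsg.Agent.Lib.InvChar.MTwelve.Five

/-!
Finite checks on words in the centraliser.
-/

set_option autoImplicit false
set_option maxRecDepth 100000
set_option maxHeartbeats 1000000

namespace CfsgLib.InvChar.MTwelve

/-- The value of a letter of the centraliser. -/
def letV (x : Fin 4 × Bool) : I :=
  bif x.2 then (bif x.1.val == 0 then kc1 else kc2) else inv (bif x.1.val == 0 then kc1 else kc2)

/-- The value of a word of the centraliser. -/
def evI (w : Wd) : I := w.foldr (fun x acc => mul (letV x) acc) 0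

theorem cWd_check : (all1 fun i => (evI (cWd i)).val == i.val &&
    (cWd i).all fun x => decide (x.1.val < 2)) = true := by
  decide +kernel

/-- The image of a generator of the centraliser of the four group. -/
def taIm (y3 y4 : I) (k : Fin 5) : I :=
  [kb, ka, kza, y3, y4].getD k.val 0

/-- The value of the word of an element of the centraliser of the four group at given images. -/
def taEv (y3 y4 : I) (i : I) : I := (taWd i).foldl (fun r k => mul r (taIm y3 y4 k)) 0

/-- A generator of the centraliser of the four group. -/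
def taGen (k : Fin 5) : I := [kb, kz, ka, kg3, kg4].getD k.val 0

theorem taWd_check : (all1 fun i => !com i ka ||
    ((taWd i).foldl (fun r k => mul r (taGen k)) 0).val == i.val) = true ∧
    (∀ k : Fin 5, com (taGen k) ka = true) ∧ com (cj kf kg3) ka = true ∧
    com (cj kf kg4) ka = true := by
  decide +kernel

/-- The conditions on the action of an element of order three on the centraliser of the four
group. -/
def taCond (y3 y4 : I) : Bool :=
  [kg3, kg4].all (fun h => (taEv y3 y4 (taEv y3 y4 (taEv y3 y4 h))).val == h.val &&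
    (cj kf (taEv y3 y4 h)).val == (cj kv (taEv y3 y4 (taEv y3 y4 (cj kf h)))).val) &&
  (List.finRange 5).all fun i => (List.finRange 5).all fun j =>
    (taEv y3 y4 (mul (taGen i) (taGen j))).val == (mul (taIm y3 y4 i) (taIm y3 y4 j)).val

theorem ta_check : (all1 fun y3 => !com y3 ka || all1 fun y4 => !com y4 ka || !taCond y3 y4 ||
    (y3.val == km3.val && y4.val == km4.val) ||
    (y3.val == km3'.val && y4.val == km4'.val)) = true := by
  decide +kernel

theorem cycle_check : cj kc1 kb = kf ∧ cj kc1 kf = mul kb kf ∧ mul kc1 (mul kc1 kc1) = 0 ∧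
    evI (cWd kc2 ++ cWd kc2 ++ cWd kc2 ++ cWd kc2 ++ cWd kc2 ++ cWd kc2 ++ cWd kc2 ++ cWd kc2) = 0
    ∧ evI (cWd kc1 ++ cWd kc1 ++ cWd kc1) = 0 ∧ com kf kb = true ∧ mul kf kf = 0 ∧ kv = ka := by
  decide +kernel

theorem beta_check : beta kz = kz ∧ beta kb = kb ∧ beta ka = ka ∧ beta kf = kf ∧ beta kza = kza ∧
    beta 0 = 0 ∧ taEv km3' km4' (beta kg3) = beta km3 ∧ taEv km3' km4' (beta kg4) = beta km4 ∧
    com (beta kg3) ka = true ∧ com (beta kg4) ka = true ∧
    (all1 fun i => (any1 fun j => (beta j).val == i.val) &&
      (beta (mul i kc1)).val == (mul (beta i) (beta kc1)).val &&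
      (beta (mul i kc2)).val == (mul (beta i) (beta kc2)).val &&
      (beta (mul i (inv kc1))).val == (mul (beta i) (beta (inv kc1))).val &&
      (beta (mul i (inv kc2))).val == (mul (beta i) (beta (inv kc2))).val) = true := by
  decide +kernel

end CfsgLib.InvChar.MTwelve
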