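import Cfsg.Agent.Lib.InvChar.MTwelve.ModelData
import Cfsg.Agent.Lib.InvChar.MTwelve.Setting
import Cfsg.Agent.Lib.InvChar.MTwelve.Words
import Cfsg.Agent.Lib.FusionSub.MathieuM12
import Cfsg.Agent.Lib.OutMathieu.Outer
import Cfsg.Agent.Lib.Golay.Simple
import Cfsg.Agent.Lib.Golay.TblHom

/-!
The model: four elements of the Mathieu group of degree twelve, the centraliser of a central
involution and the relations.
-/

set_option autoImplicit false
set_option linter.unusedSectionVars false
set_option maxRecDepth 100000
set_option maxHeartbeats 1000000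

open Cfsg CfsgLib.Golay CfsgLib.OutMathieu CfsgLib.SporRecognition.CosetCert

namespace CfsgLib.InvChar.MTwelve

/-- The table of a letter. -/
def letTbl (x : Fin 4 × Bool) : ℕ := genTbls.getD (bif x.2 then x.1.val else x.1.val + 4) 0

/-- The table of a word. -/
def wordTbl (w : Wd) : ℕ := w.foldr (fun x t => compTbl (letTbl x) t) CfsgLib.OutMathieu.idTbl

/-- The table of an element of the centraliser. -/
def elT (i : I) : ℕ := elTbls.getD i.val 0

/-- Whether two tables agree on the points. -/
def sameTbl (t t' : ℕ) : Bool := (List.range 24).all fun j => tblAt t j == tblAt t' j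

theorem gens_check : ((List.range 8).all fun k => inM24 (genTbls.getD k 0) &&
      imgMask (genTbls.getD k 0) dodMask == dodMask) = true ∧
    ((List.range 4).all fun k =>
      isIdTbl (compTbl (genTbls.getD k 0) (genTbls.getD (k + 4) 0))) = true := by
  decide +kernel

theorem rels_check : (allW.all fun w => isIdTbl (wordTbl w)) = true := by decide +kernel

theorem els_check : (all1 fun i => inM24 (elT i) && imgMask (elT i) dodMask == dodMask &&
    sameTbl (elT i) (wordTbl (cWd i)) &&
    (i.val == 0 || !isIdTbl (elT i)) &&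
    ([(0, true), (0, false), (1, true), (1, false)] : Wd).all fun x =>
      isCompTbl (elT (mul i (letV x))) (elT i) (letTbl x)) = true ∧
    isIdTbl (elT 0) = true ∧ elT kz = CfsgLib.FusionSub.Mathieu.certM12.z ∧ kc1 ≠ 0 := by
  decide +kernel

theorem fold_check : (all1 fun i => all1 fun j =>
    ((cWd j).foldl (fun r x => mul r (letV x)) i).val == (mul i j).val) = true := by
  decide +kernel

theorem unique_check : (all1 fun j => all1 fun i =>
    !((mul i (inv j)).val == 0) || i.val == j.val) = true := by
  decide +kernel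

theorem centre_check : (all1 fun i => i.val == 0 || !((mul i i).val == 0) || i.val == kz.val ||
    any1 fun j => !com i j) = true := by
  decide +kernel

/-- A step in the list of conjugates. -/
def classStep (k : ℕ) : Bool :=
  let q := classList.getD k (0, 0, 0)
  decide (q.2.1 < k) && decide (q.2.2 < 4) &&
    conjTbl (genTbls.getD q.2.2 0) (classList.getD q.2.1 (0, 0, 0)).1 q.1

theorem class_list_check : (classList.getD 0 (0, 0, 0)).1 = elT kz ∧
    ((List.range 495).all fun k => k == 0 || classStep k) = true ∧
    classOrder.length = 495 ∧ (classOrder.all fun k => decide (k < 495)) = true ∧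
    (classList.all fun q => mkTbl 24 (fun j => tblAt q.1 j) == q.1) = true ∧
    classList.length = 495 ∧
    increasing id (classOrder.map fun k => (classList.getD k (0, 0, 0)).1) = true := by
  decide +kernel

theorem class_ok_check : ((List.range 495).all fun k =>
    okTbl (classList.getD k (0, 0, 0)).1) = true := by
  decide +kernel

theorem exists_perm4 (a : Fin 4) :
    ∃ g : Equiv.Perm GolayPt, IsTbl g (genTbls.getD a.val 0) := by
  have h := gens_check.1
  simp only [List.all_eq_true, List.mem_range, Bool.and_eq_true, inM24] at h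
  exact exists_isTbl (h a.val (by omega)).1.1

/-- The four permutations. -/
noncomputable def perm4 (a : Fin 4) : Equiv.Perm GolayPt := (exists_perm4 a).choose

theorem perm4_tbl (a : Fin 4) : IsTbl (perm4 a) (genTbls.getD a.val 0) :=
  (exists_perm4 a).choose_spec

theorem perm4_mem (a : Fin 4) : perm4 a ∈ stabK [dodMask] := by
  have h := gens_check.1
  simp only [List.all_eq_true, List.mem_range, Bool.and_eq_true, beq_iff_eq] at h
  exact mem_stabK_of_isTbl (perm4_tbl a) (h a.val (by omega)).1 fun n hn => by
    rw [List.mem_singleton.1 hn]; exact (h a.val (by omega)).2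

theorem letter_tbl (x : Fin 4 × Bool) :
    IsTbl (cond x.2 (perm4 x.1) (perm4 x.1)⁻¹) (letTbl x) := by
  rcases x with ⟨a, _ | _⟩
  · have h := gens_check.1
    simp only [List.all_eq_true, List.mem_range, Bool.and_eq_true, inM24] at h
    obtain ⟨g, hg⟩ := exists_isTbl (h (a.val + 4) (by omega)).1.1
    have h2 := List.all_eq_true.1 gens_check.2 a.val (List.mem_range.2 a.2)
    have e : (perm4 a)⁻¹ = g :=
      inv_eq_of_mul_eq_one_right ((isTbl_compTbl (perm4_tbl a) hg).isIdTbl_iff.1 h2)
    show IsTbl (perm4 a)⁻¹ _
    rw [e]; exact hg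
  · exact perm4_tbl a

theorem word_tbl (w : Wd) : IsTbl (evalW perm4 w) (wordTbl w) := by
  induction w with
  | nil =>
    rw [evalW_eq_prod, List.map_nil, List.prod_nil]
    exact CfsgLib.OutMathieu.isTbl_idTbl
  | cons x w ih =>
    rw [evalW_eq_prod, List.map_cons, List.prod_cons, ← evalW_eq_prod]
    exact isTbl_compTbl (letter_tbl x) ih

theorem model_rels : ∀ w ∈ allW, evalW perm4 w = 1 := fun w hw =>
  (word_tbl w).isIdTbl_iff.1 (List.all_eq_true.1 rels_check w hw)

/-- The elements of the centraliser. -/
noncomputable def eP (i : I) : Equiv.Perm GolayPt := evalW perm4 (cWd i)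

theorem els_spec (i : I) : IsTbl (eP i) (elT i) ∧ (isIdTbl (elT i) = true → i = 0) ∧
    ∀ x : Fin 4 × Bool, x.1.val < 2 → eP (mul i (letV x)) = eP i * cond x.2 (perm4 x.1) (perm4 x.1)⁻¹
    := by
  have hall := all1_spec els_check.1
  have htbl : ∀ j, IsTbl (eP j) (elT j) := by
    intro j p
    have h := hall j
    simp only [Bool.and_eq_true, sameTbl, List.all_eq_true, List.mem_range, beq_iff_eq] at h
    rw [h.1.1.2 _ (idx_lt p)]
    exact word_tbl _ p
  have h := hall i
  simp only [Bool.and_eq_true, Bool.or_eq_true, Bool.not_eq_true', beq_iff_eq, List.all_eq_true]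
    at h
  refine ⟨htbl i, fun e => ?_, fun x hx => ?_⟩
  · rcases h.1.2 with h' | h'
    · exact Fin.ext h'
    · rw [e] at h'; simp at h'
  · obtain ⟨⟨a, ha⟩, b⟩ := x
    have hmem : ((⟨a, ha⟩ : Fin 4), b) ∈ ([(0, true), (0, false), (1, true), (1, false)] : Wd) := by
      rcases (show a = 0 ∨ a = 1 by simp at hx; omega) with rfl | rfl <;> cases b <;> simp
    exact (htbl _).ext ((htbl i).mul (letter_tbl _) (h.2 _ hmem))

theorem eP_mem (i : I) : eP i ∈ stabK [dodMask] := by
  have h := all1_spec els_check.1 i
  simp only [Bool.and_eq_true, beq_iff_eq] at h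
  exact mem_stabK_of_isTbl (els_spec i).1 h.1.1.1.1 fun n hn => by
    rw [List.mem_singleton.1 hn]; exact h.1.1.1.2

theorem eP_zero : eP 0 = 1 := (els_spec 0).1.isIdTbl_iff.1 els_check.2.1

theorem eP_mul (i j : I) : eP (mul i j) = eP i * eP j := by
  have h := all1_spec cWd_check j
  simp only [Bool.and_eq_true, List.all_eq_true, decide_eq_true_eq] at h
  have key : ∀ w : Wd, (∀ x ∈ w, x.1.val < 2) → ∀ i,
      eP (w.foldl (fun r x => mul r (letV x)) i) = eP i * evalW perm4 w := by
    intro w
    induction w with
    | nil => intro _ i; simp [evalW_eq_prod]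
    | cons x w ih =>
      intro hw i
      rw [List.foldl_cons, ih (fun y hy => hw y (List.mem_cons_of_mem _ hy)),
        (els_spec i).2.2 x (hw x (List.mem_cons_self ..)), evalW_eq_prod, evalW_eq_prod,
        List.map_cons, List.prod_cons, mul_assoc]
  have h2 := all1_spec (all1_spec fold_check i) j
  rw [beq_iff_eq, ← Fin.ext_iff] at h2
  rw [← h2, key _ h.2]
  rfl

theorem eP_injective : Function.Injective eP := by
  intro i j e
  obtain ⟨hl, hr⟩ := one_inv_check
  have h := all1_spec hr j
  simp only [Bool.and_eq_true, beq_iff_eq] at h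
  have h1 : mul j (inv j) = 0 := Fin.ext h.1
  have h2 : mul i (inv j) = 0 := by
    refine (els_spec _).2.1 ((els_spec _).1.isIdTbl_iff.2 ?_)
    rw [eP_mul, e, ← eP_mul, h1, eP_zero]
  have h3 := all1_spec (all1_spec unique_check j) i
  simp only [h2, Fin.val_zero, beq_self_eq_true, Bool.not_true, Bool.false_or, beq_iff_eq] at h3
  exact Fin.ext h3

end CfsgLib.InvChar.MTwelve
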